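import Groth.Prelude.Def_FlatCA
import Groth.Agent.Lib.FlatPur25.Algebra
import Groth.Agent.Lib.FibDim14.Basic

/-!
# A finitely generated ideal cutting out the fibre support of a module
-/

set_option autoImplicit false

universe u

open TensorProduct AlgebraicGeometry

set_option backward.isDefEq.respectTransparency.types false

attribute [local instance] Algebra.TensorProduct.rightAlgebra

namespace Groth.Agent.GeomNbhd4

/-- The support of the fibre module is the preimage of the support of the module. -/
theorem mem_support_fiberMod_iff {R S : Type u} [CommRing R] [CommRing S] [Algebra R S] (N : Type u)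
    [AddCommGroup N] [Module S N] [Module R N] [IsScalarTower R S N] [Module.Finite S N]
    (p : Ideal R) [p.IsPrime] (Q : PrimeSpectrum (p.Fiber S)) :
    Q ∈ Module.support (p.Fiber S) (FlatCA.fiberMod p S N) ↔
      Module.annihilator S N ≤ Q.asIdeal.comap (algebraMap S (p.Fiber S)) := by
  refine (FlatPur25.mem_support_baseChange_iff (B := S) (C := p.Fiber S) (M := N) Q).trans ?_
  exact Module.mem_support_iff_of_finite

/-- A finitely generated ideal of the annihilator cuts out the support of the fibre module. -/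
theorem exists_fg_fibre_support {R S : Type u} [CommRing R] [CommRing S] [Algebra R S] [Algebra.FiniteType R S]
    (N : Type u) [AddCommGroup N] [Module S N] [Module R N] [IsScalarTower R S N] [Module.Finite S N]
    (p : Ideal R) [p.IsPrime] (q : Ideal S) [q.IsPrime] [q.LiesOver p] (n : ℕ)
    (x : PrimeSpectrum (p.Fiber S)) (hxq : x.asIdeal = FlatCA.fiberIdeal p q)
    (hx : x ∈ Module.support (p.Fiber S) (FlatCA.fiberMod p S N))
    (hn : FlatMor.localDim (Module.support (p.Fiber S) (FlatCA.fiberMod p S N)) ⟨x, hx⟩ = n) :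
    ∃ I : Ideal S, I.FG ∧ I ≤ Module.annihilator S N ∧
      ∃ (_ : I ≤ q) (qb : PrimeSpectrum (S ⧸ I)), qb.asIdeal.comap (Ideal.Quotient.mk I) = q ∧
      FlatMor.fibreDimAt (Spec.map (CommRingCat.ofHom (algebraMap R (S ⧸ I)))) qb = n := by
  classical
  let eF := PrimeSpectrum.primesOverOrderIsoFiber R S p
  -- the point is the one of the prime
  have hcom : ∀ w : PrimeSpectrum (p.Fiber S), (eF.symm w).1 = w.asIdeal.comap (algebraMap S (p.Fiber S)) :=
    fun w => rfl
  have hxS : x.asIdeal.comap (algebraMap S (p.Fiber S)) = q := by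
    have hle : q ≤ x.asIdeal.comap (algebraMap S (p.Fiber S)) := by
      rw [hxq]; exact Ideal.le_comap_map
    refine le_antisymm ?_ hle
    let w := eF ⟨q, inferInstance, inferInstance⟩
    have hw : w.asIdeal.comap (algebraMap S (p.Fiber S)) = q := by
      rw [← hcom]; exact congrArg Subtype.val (eF.symm_apply_apply ⟨q, inferInstance, inferInstance⟩)
    have hxw : x.asIdeal ≤ w.asIdeal := by
      rw [hxq]; exact Ideal.map_le_iff_le_comap.2 hw.ge
    exact (Ideal.comap_mono hxw).trans hw.le
  have hAq : Module.annihilator S N ≤ q := hxS ▸ (mem_support_fiberMod_iff N p x).1 hx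
  haveI : IsNoetherianRing (p.Fiber S) := Algebra.FiniteType.isNoetherianRing p.ResidueField _
  obtain ⟨s, hs, hspan⟩ := (Submodule.fg_span_iff_fg_span_finset_subset (R := p.Fiber S)
    ((algebraMap S (p.Fiber S)) '' (Module.annihilator S N : Set S))).1 (IsNoetherian.noetherian _)
  obtain ⟨t, ht, hts⟩ : ∃ t : Finset S, ↑t ⊆ (Module.annihilator S N : Set S) ∧
      t.image (algebraMap S (p.Fiber S)) = s := Finset.subset_set_image_iff.1 hs
  let I : Ideal S := Ideal.span t
  have hIA : I ≤ Module.annihilator S N := Ideal.span_le.2 ht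
  have hmap : I.map (algebraMap S (p.Fiber S)) = (Module.annihilator S N).map (algebraMap S (p.Fiber S)) := by
    rw [Ideal.map_span, ← Finset.coe_image, hts]
    exact hspan.symm
  have hIq : I ≤ q := hIA.trans hAq
  let B := S ⧸ I
  let qb : PrimeSpectrum B := ⟨q.map (Ideal.Quotient.mk I),
    Ideal.map_isPrime_of_surjective Ideal.Quotient.mk_surjective (by rwa [Ideal.mk_ker])⟩
  have hqb : qb.asIdeal.comap (Ideal.Quotient.mk I) = q := Ideal.comap_map_mk hIq
  refine ⟨I, ⟨t, rfl⟩, hIA, hIq, qb, hqb, ?_⟩
  rw [FibDim14.fibreDimAt_eq_localDim_preimage]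
  set T := Module.support (p.Fiber S) (FlatCA.fiberMod p S N)
  have hpb : ∀ w : PrimeSpectrum B,
      w ∈ (Spec.map (CommRingCat.ofHom (algebraMap R B))) ⁻¹' {Spec.map (CommRingCat.ofHom (algebraMap R B)) qb} ↔
        (w.asIdeal.comap (Ideal.Quotient.mk I)).LiesOver p := by
    intro w
    have h1 : ∀ v : PrimeSpectrum B, (v.asIdeal.comap (Ideal.Quotient.mk I)).comap (algebraMap R S) =
        v.asIdeal.comap (algebraMap R B) := fun v => rfl
    constructor
    · intro h
      refine ⟨?_⟩
      have h2 := congrArg PrimeSpectrum.asIdeal (show PrimeSpectrum.comap (algebraMap R B) w =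
        PrimeSpectrum.comap (algebraMap R B) qb from h)
      show p = _
      rw [Ideal.under, h1 w]
      refine (Eq.trans ?_ h2.symm)
      rw [PrimeSpectrum.comap_asIdeal, ← h1 qb, hqb]
      exact Ideal.LiesOver.over
    · intro h
      refine PrimeSpectrum.ext ?_
      show w.asIdeal.comap (algebraMap R B) = qb.asIdeal.comap (algebraMap R B)
      rw [← h1 w, ← h1 qb, hqb]
      exact h.over.symm.trans Ideal.LiesOver.over
  -- the fibre embeds onto the support
  let H := PrimeSpectrum.preimageHomeomorphFiber R S ⟨p, inferInstance⟩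
  let c := PrimeSpectrum.comap (Ideal.Quotient.mk I)
  let e : ((Spec.map (CommRingCat.ofHom (algebraMap R B))) ⁻¹'
      {Spec.map (CommRingCat.ofHom (algebraMap R B)) qb} : Set (PrimeSpectrum B)) → PrimeSpectrum (p.Fiber S) :=
    fun w => H ⟨c w.1, PrimeSpectrum.ext ((hpb w.1).1 w.2).over.symm⟩
  have he : Topology.IsEmbedding e := by
    refine H.isEmbedding.comp ?_
    refine (Topology.IsEmbedding.of_comp_iff Topology.IsEmbedding.subtypeVal).1 ?_
    exact (PrimeSpectrum.isClosedEmbedding_comap_of_surjective _ (Ideal.Quotient.mk I)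
      Ideal.Quotient.mk_surjective).isEmbedding.comp Topology.IsEmbedding.subtypeVal
  have hcH : ∀ w (hw : w ∈ PrimeSpectrum.comap (algebraMap R S) ⁻¹' {⟨p, inferInstance⟩}),
      (H ⟨w, hw⟩).asIdeal.comap (algebraMap S (p.Fiber S)) = w.asIdeal := fun w hw => by
    rw [← hcom]
    exact congrArg Subtype.val (eF.symm_apply_apply ⟨w.asIdeal, w.isPrime,
      ⟨(congrArg PrimeSpectrum.asIdeal hw).symm⟩⟩)
  have hrange : Set.range e = T := by
    ext Q
    constructor
    · rintro ⟨w, rfl⟩
      refine (mem_support_fiberMod_iff N p _).2 ?_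
      have h1 : I ≤ (e w).asIdeal.comap (algebraMap S (p.Fiber S)) := by
        rw [hcH]
        intro a ha
        show Ideal.Quotient.mk I a ∈ w.1.asIdeal
        rw [Ideal.Quotient.eq_zero_iff_mem.2 ha]
        exact zero_mem _
      rw [← Ideal.map_le_iff_le_comap] at h1 ⊢
      rwa [← hmap]
    · intro hQ
      have h1 : I ≤ Q.asIdeal.comap (algebraMap S (p.Fiber S)) := hIA.trans ((mem_support_fiberMod_iff N p Q).1 hQ)
      let w : PrimeSpectrum B := ⟨(Q.asIdeal.comap (algebraMap S (p.Fiber S))).map (Ideal.Quotient.mk I),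
        Ideal.map_isPrime_of_surjective Ideal.Quotient.mk_surjective (by rwa [Ideal.mk_ker])⟩
      have hw : w.asIdeal.comap (Ideal.Quotient.mk I) = (eF.symm Q).1 := Ideal.comap_map_mk h1
      refine ⟨⟨w, (hpb w).2 (hw ▸ (eF.symm Q).2.2)⟩, ?_⟩
      refine (eF.symm.injective ?_)
      refine Subtype.ext ?_
      rw [hcom, hcH]
      exact hw
  have hex : e ⟨qb, rfl⟩ = x := by
    refine eF.symm.injective (Subtype.ext ?_)
    rw [hcom, hcH, hcom, hxS]
    exact hqb
  exact (FibDim14.localDim_of_range he hrange ⟨qb, rfl⟩ hex hx).trans hn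

end Groth.Agent.GeomNbhd4
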