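import Groth.Prelude.Def_Flat
import Groth.Agent.Lib.DimF18.Affine
import Mathlib

/-!
# Charts with purely transcendental residue field

At a point of local fibre dimension `n` of a finite type algebra there is a quasi-finite map to
`n`-dimensional affine space such that the image point has purely transcendental residue field over
that of the base point.
-/

set_option autoImplicit false

universe u

open TensorProduct

set_option backward.isDefEq.respectTransparency.types false

namespace Groth.Agent.GeomNbhd4

/-- A field extension given by a ring map is purely transcendental. -/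
def PureTrans {k E : Type u} [Field k] [Field E] (f : k →+* E) : Prop :=
  ∃ (ι : Type u) (x : ι → E), letI := f.toAlgebra
    AlgebraicIndependent k x ∧ IntermediateField.adjoin k (Set.range x) = ⊤

theorem PureTrans.congr {k E k' E' : Type u} [Field k] [Field E] [Field k'] [Field E'] {f : k →+* E}
    (h : PureTrans f) (f' : k' →+* E') (e : k ≃+* k') (e' : E ≃+* E')
    (he : ∀ a, f' (e a) = e' (f a)) : PureTrans f' := by
  obtain ⟨ι, x, hx, htop⟩ := h
  letI := f.toAlgebra
  letI := f'.toAlgebra
  refine ⟨ι, e' ∘ x, ?_, ?_⟩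
  · exact (algebraicIndependent_ringHom_iff_of_comp_eq e e'.toRingHom e'.injective
      (RingHom.ext he)).2 hx
  · apply IntermediateField.toSubfield_injective
    rw [IntermediateField.adjoin_toSubfield, IntermediateField.top_toSubfield]
    have h1 := congrArg IntermediateField.toSubfield htop
    rw [IntermediateField.adjoin_toSubfield, IntermediateField.top_toSubfield] at h1
    have h2 := congrArg (Subfield.map e'.toRingHom) h1
    rw [RingHom.map_field_closure, Set.image_union, ← Set.range_comp, ← Set.range_comp] at h2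
    rw [show (e'.toRingHom : E → E') ∘ algebraMap k E = algebraMap k' E' ∘ e from
      funext fun a => (he a).symm, Set.range_comp _ e, e.surjective.range_eq, Set.image_univ] at h2
    refine h2.trans (eq_top_iff.2 fun y _ => ?_)
    exact ⟨e'.symm y, Subfield.mem_top _, e'.apply_symm_apply y⟩

/-- An isolated prime in its fibre is a quasi-finite one. -/
theorem quasiFiniteAt_of_forall_eq (R : Type u) {S : Type u} [CommRing R] [CommRing S] [Algebra R S]
    [Algebra.FiniteType R S] (q : Ideal S) [q.IsPrime]
    (hmin : ∀ P : Ideal S, P.IsPrime → P.under R = q.under R → P ≤ q → P = q)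
    (hmax : ∀ P : Ideal S, P.IsPrime → P.under R = q.under R → q ≤ P → P = q) :
    Algebra.QuasiFiniteAt R q := by
  let a := q.under R
  let e := PrimeSpectrum.primesOverOrderIsoFiber R S a
  haveI : q.LiesOver a := ⟨rfl⟩
  let Q := e ⟨q, inferInstance, inferInstance⟩
  have hQ : Q.asIdeal.comap (Algebra.TensorProduct.includeRight : S →ₐ[R] a.Fiber S).toRingHom = q :=
    congrArg Subtype.val (e.symm_apply_apply ⟨q, inferInstance, inferInstance⟩)
  haveI : IsNoetherianRing (a.Fiber S) := Algebra.FiniteType.isNoetherianRing a.ResidueField _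
  haveI : IsJacobsonRing (a.Fiber S) := isJacobsonRing_of_finiteType (A := a.ResidueField)
  have hq : ∀ P : PrimeSpectrum (a.Fiber S), (P ≤ Q ∨ Q ≤ P) → P = Q := by
    intro P hP
    obtain ⟨⟨P', hP', hP''⟩, rfl⟩ := e.surjective P
    refine congrArg e (Subtype.ext ?_)
    rcases hP with h | h
    · exact hmin P' hP' hP''.over.symm (e.le_iff_le.1 h)
    · exact hmax P' hP' hP''.over.symm (e.le_iff_le.1 h)
  have hopen : IsOpen ({Q} : Set (PrimeSpectrum (a.Fiber S))) := by
    refine ((PrimeSpectrum.isOpen_singleton_tfae_of_isNoetherian_of_isJacobsonRing Q).out 2 0 rfl rfl).1 ⟨?_, ?_⟩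
    · rw [PrimeSpectrum.isClosed_singleton_iff_isMaximal, ← PrimeSpectrum.isMax_iff]
      exact fun P hP => (hq P (Or.inr hP)).le
    · intro x y hxy hx
      rw [Set.mem_singleton_iff] at hx ⊢
      subst hx
      exact hq y (Or.inl ((PrimeSpectrum.le_iff_specializes y _).2 hxy))
  haveI := Algebra.QuasiFiniteAt.of_isOpen_singleton (R := a.ResidueField) Q hopen
  exact Algebra.QuasiFiniteAt.of_quasiFiniteAt_residueField a q Q.asIdeal hQ

/-- Algebraic elements over a residue field satisfy a polynomial relation with nonzero constant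
term. -/
theorem exists_relation {T B K : Type u} [CommRing T] [CommRing B] [Field K] [Algebra T B]
    (ψ : B →+* K) (a : Ideal T) [a.IsPrime] (g : a.ResidueField →+* K)
    (hg : ∀ t, g (algebraMap T a.ResidueField t) = ψ (algebraMap T B t)) (u : B) (hu : ψ u ≠ 0)
    (halg : letI := g.toAlgebra; IsAlgebraic a.ResidueField (ψ u)) :
    ∃ P : Polynomial T, P.coeff 0 ∉ a ∧ ψ (Polynomial.aeval u P) = 0 := by
  letI := g.toAlgebra
  letI : Algebra (T ⧸ a) K := (g.comp (algebraMap (T ⧸ a) a.ResidueField)).toAlgebra
  haveI : IsScalarTower (T ⧸ a) a.ResidueField K := IsScalarTower.of_algebraMap_eq fun _ => rfl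
  obtain ⟨p, hp, hroot⟩ := (IsFractionRing.isAlgebraic_iff (T ⧸ a) a.ResidueField K).2 halg
  obtain ⟨c, hc, hnd⟩ := p.exists_eq_pow_rootMultiplicity_mul_and_not_dvd hp 0
  rw [map_zero, sub_zero] at hc hnd
  rw [Polynomial.X_dvd_iff] at hnd
  have hc0 : Polynomial.aeval (ψ u) c = 0 := by
    rw [hc, map_mul, map_pow, Polynomial.aeval_X] at hroot
    exact (mul_eq_zero.1 hroot).resolve_left (pow_ne_zero _ hu)
  obtain ⟨P, hP⟩ := Polynomial.map_surjective (Ideal.Quotient.mk a) Ideal.Quotient.mk_surjective c
  refine ⟨P, fun h => hnd ?_, ?_⟩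
  · rw [← hP, Polynomial.coeff_map]
    exact Ideal.Quotient.eq_zero_iff_mem.2 h
  · rw [← hP, Polynomial.aeval_def, Polynomial.eval₂_map] at hc0
    rw [Polynomial.aeval_def, Polynomial.hom_eval₂, ← hc0]
    congr 1
    exact RingHom.ext fun t => (hg t).symm

/-- Lifting a transcendence basis of the residue field of a prime of a finite type algebra to the
algebra, scaled appropriately. -/
theorem exists_lifted_basis {A B k F K : Type u} [CommRing A] [CommRing B] [Algebra A B] [Field k]
    [Algebra A k] [CommRing F] [Algebra k F] [Field K] [Algebra k K] [Algebra F K] [IsScalarTower k F K]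
    (Q : Ideal F) [Q.IsPrime] [Algebra (F ⧸ Q) K] [IsScalarTower F (F ⧸ Q) K] [IsFractionRing (F ⧸ Q) K]
    (ψ : B →+* K) (hspan : ∀ f : F, algebraMap F K f ∈ Algebra.adjoin k (Set.range ψ))
    (r : ℕ) (hr : Algebra.trdeg k K = (r : Cardinal.{u})) :
    ∃ y : Fin r → B, IsTranscendenceBasis k (ψ ∘ y) := by
  haveI : Algebra.IsAlgebraic (Algebra.adjoin k (Set.range ψ)) K := ⟨fun x => by
    obtain ⟨u, v, hv, rfl⟩ := IsFractionRing.div_surjective (A := F ⧸ Q) x
    obtain ⟨u, rfl⟩ := Ideal.Quotient.mk_surjective u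
    obtain ⟨v, rfl⟩ := Ideal.Quotient.mk_surjective v
    have hv0 : algebraMap (F ⧸ Q) K (Ideal.Quotient.mk Q v) ≠ 0 :=
      IsFractionRing.to_map_ne_zero_of_mem_nonZeroDivisors hv
    have e : ∀ w, algebraMap (F ⧸ Q) K (Ideal.Quotient.mk Q w) = algebraMap F K w := fun w =>
      (IsScalarTower.algebraMap_apply F (F ⧸ Q) K w).symm
    rw [e] at hv0
    rw [e, e]
    refine ⟨Polynomial.C (⟨_, hspan v⟩ : Algebra.adjoin k (Set.range ψ)) * Polynomial.X -
      Polynomial.C ⟨_, hspan u⟩, fun h => hv0 ?_, ?_⟩
    · have := congrArg (fun p => Polynomial.coeff p 1) h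
      simpa [Subtype.ext_iff] using this
    · simp [Polynomial.aeval_def, mul_div_cancel₀ _ hv0]⟩
  obtain ⟨t, ht, hbasis⟩ := exists_isTranscendenceBasis_subset (R := k) (Set.range ψ)
  obtain ⟨e⟩ : Nonempty (ULift.{u} (Fin r) ≃ t) := by
    rw [← Cardinal.eq]
    simpa [hbasis.cardinalMk_eq_trdeg] using hr.symm
  choose y hy using fun i => ht (e i).2
  refine ⟨fun i => y ⟨i⟩, ?_⟩
  have h := hbasis.comp_equiv (Equiv.ulift.symm.trans e)
  convert h using 1
  exact funext fun i => hy ⟨i⟩

theorem exists_chart_aux {A B F : Type u} [CommRing A] [CommRing B] [Algebra A B] [Algebra.FiniteType A B]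
    (p : Ideal A) [p.IsPrime] [CommRing F] [Algebra A F] [Algebra p.ResidueField F]
    [IsScalarTower A p.ResidueField F] [Algebra.FiniteType p.ResidueField F] [IsNoetherianRing F]
    (ι : B →ₐ[A] F) (hadj : Algebra.adjoin p.ResidueField (Set.range ι) = ⊤)
    (hclear : ∀ f : F, ∃ c ∉ p, ∃ b : B, c • f = ι b)
    (q : Ideal B) [q.IsPrime] [q.LiesOver p] (Q : PrimeSpectrum F) (hQ : Q.asIdeal.comap ι.toRingHom = q)
    (hlift : ∀ P : Ideal B, P.IsPrime → P.LiesOver p → P ≤ q →
      ∃ QP : PrimeSpectrum F, QP.asIdeal ≤ Q.asIdeal ∧ QP.asIdeal.comap ι.toRingHom = P)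
    (n : ℕ) (hn : FlatMor.localDim (PrimeSpectrum F) Q = n) :
    ∃ (φ : MvPolynomial (Fin n) A →ₐ[A] B)
      (hp : p = (q.comap φ.toRingHom).comap (algebraMap A (MvPolynomial (Fin n) A))),
      (letI := φ.toRingHom.toAlgebra; Algebra.QuasiFiniteAt (MvPolynomial (Fin n) A) q) ∧
      PureTrans (Ideal.ResidueField.map p (q.comap φ.toRingHom)
        (algebraMap A (MvPolynomial (Fin n) A)) hp) := by
  classical
  let ψ : B →ₐ[A] Q.asIdeal.ResidueField := (IsScalarTower.toAlgHom A F Q.asIdeal.ResidueField).comp ι
  have hψ : ∀ b, ψ b = 0 ↔ b ∈ q := fun b => by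
    rw [← hQ]
    exact Ideal.algebraMap_residueField_eq_zero
  have hspan : ∀ f : F, algebraMap F Q.asIdeal.ResidueField f ∈
      Algebra.adjoin p.ResidueField (Set.range ψ.toRingHom) := by
    intro f
    have h1 : f ∈ Algebra.adjoin p.ResidueField (Set.range ι) := hadj ▸ trivial
    induction h1 using Algebra.adjoin_induction with
    | mem w hw =>
      obtain ⟨b, rfl⟩ := hw
      exact Algebra.subset_adjoin ⟨b, rfl⟩
    | algebraMap w =>
      rw [← IsScalarTower.algebraMap_apply]
      exact Subalgebra.algebraMap_mem _ _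
    | add w w' _ _ h h' => rw [map_add]; exact add_mem h h'
    | mul w w' _ _ h h' => rw [map_mul]; exact mul_mem h h'
  let r := VarDim.tdeg p.ResidueField (F ⧸ Q.asIdeal)
  obtain ⟨y, hy⟩ := exists_lifted_basis (A := A) Q.asIdeal ψ.toRingHom hspan r
    (DimF18.trdeg_residueField_eq p.ResidueField F Q)
  obtain ⟨s, hs, hscard⟩ := Ideal.exists_finset_card_eq_height_of_isNoetherianRing Q.asIdeal
  have hrd : r + s.card = n := by
    rw [DimF18.localDim_spec p.ResidueField (F) Q,
      IsLocalization.AtPrime.ringKrullDim_eq_height Q.asIdeal, ← hscard] at hn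
    rw [add_comm]
    exact_mod_cast hn
  have hb : ∀ f : s, ∃ (c : A) (b : B), c ∉ p ∧ b ∈ q ∧ c • (f.1) = ι b := by
    intro f
    obtain ⟨c, hc, b, hcb⟩ := hclear f.1
    refine ⟨c, b, hc, ?_, hcb⟩
    rw [← hQ, Ideal.mem_comap]
    show ι b ∈ Q.asIdeal
    rw [show ι b = c • f.1 from hcb.symm, Algebra.smul_def]
    exact Ideal.mul_mem_left _ _ (hs.1.2 (Ideal.subset_span f.2))
  choose c b hc hbq hcb using hb
  let e : Fin n ≃ Fin r ⊕ s :=
    (finCongr hrd.symm).trans (finSumFinEquiv.symm.trans (Equiv.sumCongr (Equiv.refl _) s.equivFin.symm))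
  let φ : MvPolynomial (Fin n) A →ₐ[A] B := MvPolynomial.aeval (Sum.elim y b ∘ e)
  let a := q.comap φ.toRingHom
  have hXy : ∀ i, φ (MvPolynomial.X (e.symm (Sum.inl i))) = y i := fun i => by simp [φ]
  have hXb : ∀ f, φ (MvPolynomial.X (e.symm (Sum.inr f))) = b f := fun f => by simp [φ]
  have hp : p = a.comap (algebraMap A (MvPolynomial (Fin n) A)) := by
    rw [Ideal.comap_comap,
      show φ.toRingHom.comp (algebraMap A (MvPolynomial (Fin n) A)) = algebraMap A B from φ.comp_algebraMap]
    exact Ideal.LiesOver.over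
  refine ⟨φ, hp, ?_, ?_⟩
  rotate_left
  -- the residue field of the image
  all_goals
    let g : a.ResidueField →+* Q.asIdeal.ResidueField := Ideal.ResidueField.lift a (ψ.toRingHom.comp φ.toRingHom)
      (fun t ht => (hψ _).2 ht) (fun t ht => isUnit_iff_ne_zero.2 fun h => ht ((hψ _).1 h))
    have hg : ∀ t, g (algebraMap _ a.ResidueField t) = ψ (φ t) := fun t =>
      Ideal.ResidueField.lift_algebraMap _ _ _ _ t
    let f := Ideal.ResidueField.map p a (algebraMap A (MvPolynomial (Fin n) A)) hp
    have hgf : g.comp f = algebraMap p.ResidueField Q.asIdeal.ResidueField := by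
      refine Ideal.ResidueField.ringHom_ext (RingHom.ext fun t => ?_)
      show g (f (algebraMap A _ t)) = algebraMap p.ResidueField Q.asIdeal.ResidueField (algebraMap A _ t)
      rw [Ideal.ResidueField.map_algebraMap, hg, φ.commutes, ψ.commutes,
        ← IsScalarTower.algebraMap_apply]
  · letI := f.toAlgebra
    let x : ULift.{u} (Fin r) → a.ResidueField := fun i =>
      algebraMap (MvPolynomial (Fin n) A) a.ResidueField (MvPolynomial.X (e.symm (Sum.inl i.down)))
    refine ⟨_, x, ?_, ?_⟩
    · refine AlgebraicIndependent.of_ringHom_of_comp_eq (RingHom.id p.ResidueField) g ?_ Function.injective_id ?_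
      · have h1 := hy.1.comp ULift.down ULift.down_injective
        have h2 : ⇑g ∘ x = (ψ.toRingHom ∘ y) ∘ ULift.down :=
          funext fun i => (hg _).trans (congrArg ψ (hXy _))
        rw [h2]
        exact h1
      · exact hgf.symm
    · refine eq_top_iff.2 fun z _ => ?_
      set L := IntermediateField.adjoin p.ResidueField (Set.range x)
      have hmem : ∀ t, algebraMap (MvPolynomial (Fin n) A) a.ResidueField t ∈ L := by
        intro t
        induction t using MvPolynomial.induction_on with
        | C t =>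
          rw [show algebraMap _ a.ResidueField (MvPolynomial.C t) = f (algebraMap A _ t) from
            (Ideal.ResidueField.map_algebraMap _ _ _ hp t).symm]
          exact L.algebraMap_mem _
        | add t t' ht ht' => rw [map_add]; exact add_mem ht ht'
        | mul_X t i ht =>
          rw [map_mul]
          refine mul_mem ht ?_
          obtain ⟨j | j, rfl⟩ := e.symm.surjective i
          · exact IntermediateField.subset_adjoin _ _ ⟨⟨j⟩, rfl⟩
          · rw [(Ideal.algebraMap_residueField_eq_zero (I := a)).2 (show φ _ ∈ q from (hXb j).symm ▸ hbq j)]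
            exact zero_mem _
      obtain ⟨u, v, -, rfl⟩ := IsFractionRing.div_surjective (A := MvPolynomial (Fin n) A ⧸ a) z
      obtain ⟨u, rfl⟩ := Ideal.Quotient.mk_surjective u
      obtain ⟨v, rfl⟩ := Ideal.Quotient.mk_surjective v
      exact div_mem (hmem u) (hmem v)
  · letI := φ.toRingHom.toAlgebra
    haveI : IsScalarTower A (MvPolynomial (Fin n) A) B :=
      IsScalarTower.of_algebraMap_eq fun t => (φ.commutes t).symm
    haveI : Algebra.FiniteType (MvPolynomial (Fin n) A) B :=
      Algebra.FiniteType.of_restrictScalars_finiteType A _ _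
    refine quasiFiniteAt_of_forall_eq _ q ?_ ?_
    · intro P hP hPa hle
      haveI := hP
      haveI hPp : P.LiesOver p := ⟨by rw [hp]; show _ = P.comap _; rw [← φ.comp_algebraMap, ← Ideal.comap_comap]; exact congrArg _ hPa.symm⟩
      obtain ⟨QP, hle', hQP⟩ := hlift P hP hPp hle
      have hge : Ideal.span (s : Set (F)) ≤ QP.asIdeal := by
        rw [Ideal.span_le]
        intro f hf
        have hbP : b ⟨f, hf⟩ ∈ P := by
          rw [← hXb]
          have h2 : MvPolynomial.X (e.symm (Sum.inr ⟨f, hf⟩)) ∈ P.under (MvPolynomial (Fin n) A) := by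
            rw [hPa]
            show φ _ ∈ q
            rw [hXb]; exact hbq _
          exact h2
        have hu : IsUnit (algebraMap A (F) (c ⟨f, hf⟩)) := by
          rw [IsScalarTower.algebraMap_apply A p.ResidueField (F)]
          exact (isUnit_iff_ne_zero.2 fun h => hc ⟨f, hf⟩ (Ideal.algebraMap_residueField_eq_zero.1 h)).map _
        rw [SetLike.mem_coe, ← Ideal.unit_mul_mem_iff_mem _ hu, ← Algebra.smul_def,
          show c ⟨f, hf⟩ • f = ι (b ⟨f, hf⟩) from hcb ⟨f, hf⟩]
        rw [← hQP] at hbP
        exact hbP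
      have h3 : QP = Q := PrimeSpectrum.ext (le_antisymm hle' (hs.2 ⟨QP.isPrime, hge⟩ hle'))
      rw [← hQP, h3, hQ]
    · intro P hP hPa hle
      refine le_antisymm (fun u hu => ?_) hle
      by_contra huq
      letI := g.toAlgebra
      have halg : IsAlgebraic a.ResidueField (ψ u) := by
        haveI := hy.isAlgebraic
        have hle2 : ∀ z : Algebra.adjoin p.ResidueField (Set.range (ψ.toRingHom ∘ y)), z.1 ∈ g.range := by
          rintro ⟨z, hz⟩
          induction hz using Algebra.adjoin_induction with
          | mem w hw => obtain ⟨i, rfl⟩ := hw; exact ⟨_, (hg _).trans (congrArg ψ (hXy i))⟩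
          | algebraMap w => exact ⟨f w, congr($hgf w)⟩
          | add w w' _ _ h h' => exact add_mem h h'
          | mul w w' _ _ h h' => exact mul_mem h h'
        let τ : Algebra.adjoin p.ResidueField (Set.range (ψ.toRingHom ∘ y)) →+* g.range :=
          (Subalgebra.val _).toRingHom.codRestrict g.range hle2
        obtain ⟨P₀, hP₀, hroot⟩ := Algebra.IsAlgebraic.isAlgebraic
          (R := Algebra.adjoin p.ResidueField (Set.range (ψ.toRingHom ∘ y))) (ψ u)
        let τ' := (RingEquiv.ofBijective g.rangeRestrict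
          ⟨g.rangeRestrict.injective, g.rangeRestrict_surjective⟩).symm.toRingHom.comp τ
        have hτ' : g.comp τ' = algebraMap _ Q.asIdeal.ResidueField := by
          refine RingHom.ext fun z => ?_
          exact congrArg Subtype.val ((RingEquiv.ofBijective g.rangeRestrict
            ⟨g.rangeRestrict.injective, g.rangeRestrict_surjective⟩).apply_symm_apply (τ z))
        refine ⟨P₀.map τ', (Polynomial.map_ne_zero_iff ?_).2 hP₀, ?_⟩
        · intro z z' hzz
          have h0 := congrArg g hzz
          rw [← RingHom.comp_apply, ← RingHom.comp_apply, hτ'] at h0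
          exact Subtype.ext h0
        · rw [Polynomial.aeval_def, Polynomial.eval₂_map, show algebraMap a.ResidueField Q.asIdeal.ResidueField = g from rfl, hτ',
            ← Polynomial.aeval_def, hroot]
      obtain ⟨R, hR0, hRu⟩ := exists_relation ψ.toRingHom a g hg u (fun h => huq ((hψ u).1 h)) halg
      refine hR0 ?_
      have h1 : Polynomial.aeval u R ∈ P := hle ((hψ _).1 hRu)
      have h2 : (algebraMap (MvPolynomial (Fin n) A) B) (R.coeff 0) ∈ P := by
        rw [← Polynomial.X_mul_divX_add R, map_add, map_mul, Polynomial.aeval_X, Polynomial.aeval_C] at h1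
        exact (Ideal.add_mem_iff_right _ (Ideal.mul_mem_right _ _ hu)).1 h1
      show R.coeff 0 ∈ q.under (MvPolynomial (Fin n) A)
      rw [← hPa]
      exact h2


/-- A quasi-finite chart at a point of a finite type algebra whose image has purely transcendental
residue field. -/
theorem exists_chart {A B : Type u} [CommRing A] [CommRing B] [Algebra A B] [Algebra.FiniteType A B]
    (p : Ideal A) [p.IsPrime] (q : Ideal B) [q.IsPrime] [q.LiesOver p] (n : ℕ)
    (hn : FlatMor.localDim (PrimeSpectrum (p.Fiber B))
      (PrimeSpectrum.primesOverOrderIsoFiber A B p ⟨q, inferInstance, inferInstance⟩) = n) :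
    ∃ (φ : MvPolynomial (Fin n) A →ₐ[A] B)
      (hp : p = (q.comap φ.toRingHom).comap (algebraMap A (MvPolynomial (Fin n) A))),
      (letI := φ.toRingHom.toAlgebra; Algebra.QuasiFiniteAt (MvPolynomial (Fin n) A) q) ∧
      PureTrans (Ideal.ResidueField.map p (q.comap φ.toRingHom)
        (algebraMap A (MvPolynomial (Fin n) A)) hp) := by
  let eF := PrimeSpectrum.primesOverOrderIsoFiber A B p
  haveI : IsNoetherianRing (p.Fiber B) := Algebra.FiniteType.isNoetherianRing p.ResidueField _
  refine exists_chart_aux p (Algebra.TensorProduct.includeRight : B →ₐ[A] p.Fiber B) ?_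
    (fun f => Ideal.Fiber.exists_smul_eq_one_tmul _ f) q _
    (congrArg Subtype.val (eF.symm_apply_apply ⟨q, inferInstance, inferInstance⟩)) ?_ n hn
  · refine eq_top_iff.2 fun f hf => ?_
    clear hf
    induction f using TensorProduct.induction_on with
    | zero => exact zero_mem _
    | tmul z b =>
      rw [show (z ⊗ₜ[A] b : p.Fiber B) = z • ((1 : p.ResidueField) ⊗ₜ[A] b) by
        rw [TensorProduct.smul_tmul', smul_eq_mul, mul_one]]
      exact Subalgebra.smul_mem _ (Algebra.subset_adjoin (Set.mem_range_self b)) z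
    | add x y hx hy => exact add_mem hx hy
  · intro P hP hPp hle
    exact ⟨eF ⟨P, hP, hPp⟩, eF.le_iff_le.2 (show P ≤ q from hle),
      congrArg Subtype.val (eF.symm_apply_apply ⟨P, hP, hPp⟩)⟩

end Groth.Agent.GeomNbhd4
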