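import Mathlib

/-!
# Points with purely transcendental residue fields stay connected after field extensions
-/

set_option autoImplicit false

universe u

open CategoryTheory CategoryTheory.Limits AlgebraicGeometry TensorProduct IsLocalRing

set_option backward.isDefEq.respectTransparency.types false

namespace Groth.Agent.GeomNbhd4

/-- The tensor product of a purely transcendental extension with any field is a domain. -/
theorem isDomain_tensor_fractionRing (k K : Type u) [Field k] [Field K] [Algebra k K] (ι : Type u) :
    IsDomain (K ⊗[k] FractionRing (MvPolynomial ι k)) := by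
  let P := MvPolynomial ι k
  let F := FractionRing P
  let PK := MvPolynomial ι K
  let FK := FractionRing PK
  let e : K ⊗[k] P ≃ₐ[K] PK := MvPolynomial.algebraTensorAlgEquiv k K
  let g : P →ₐ[k] FK :=
    ((IsScalarTower.toAlgHom k PK FK).comp
      ((e.toAlgHom.restrictScalars k).comp Algebra.TensorProduct.includeRight))
  have hg : Function.Injective g :=
    (IsFractionRing.injective PK FK).comp (e.injective.comp
      (Algebra.TensorProduct.includeRight_injective (A := K) (B := P) (algebraMap k K).injective))
  let g' : F →ₐ[k] FK := IsFractionRing.liftAlgHom hg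
  let φ : K ⊗[k] F →ₐ[K] FK := Algebra.TensorProduct.lift (Algebra.ofId K FK) g' fun _ _ => .all _ _
  let j : K ⊗[k] P →ₐ[K] K ⊗[k] F :=
    Algebra.TensorProduct.map (AlgHom.id K K) (IsScalarTower.toAlgHom k P F)
  have hφj : φ.comp j = (IsScalarTower.toAlgHom K PK FK).comp e.toAlgHom := by
    apply Algebra.TensorProduct.ext (Subsingleton.elim _ _)
    refine AlgHom.ext fun a => ?_
    show φ (j ((1 : K) ⊗ₜ[k] a)) = _
    simp only [j, Algebra.TensorProduct.map_tmul, AlgHom.id_apply, φ, Algebra.TensorProduct.lift_tmul,
      map_one, one_mul]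
    exact IsLocalization.lift_eq _ a
  have hclear : ∀ z : K ⊗[k] F, ∃ (d : P) (y : K ⊗[k] P), d ≠ 0 ∧ z * j ((1 : K) ⊗ₜ[k] d) = j y := by
    intro z
    induction z with
    | zero => exact ⟨1, 0, one_ne_zero, by simp⟩
    | tmul c w =>
      obtain ⟨⟨a, d⟩, h⟩ := IsLocalization.surj (nonZeroDivisors P) w
      refine ⟨d, c ⊗ₜ a, nonZeroDivisors.ne_zero d.2, ?_⟩
      simp only [j, Algebra.TensorProduct.map_tmul, AlgHom.id_apply,
        Algebra.TensorProduct.tmul_mul_tmul, mul_one, IsScalarTower.coe_toAlgHom']
      exact congrArg (c ⊗ₜ[k] ·) h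
    | add a b ha hb =>
      obtain ⟨d, y, hd, hy⟩ := ha
      obtain ⟨d', y', hd', hy'⟩ := hb
      refine ⟨d * d', y * ((1 : K) ⊗ₜ[k] d') + y' * ((1 : K) ⊗ₜ[k] d), mul_ne_zero hd hd', ?_⟩
      have h1 : ((1 : K) ⊗ₜ[k] (d * d')) = ((1 : K) ⊗ₜ[k] d) * ((1 : K) ⊗ₜ[k] d') := by
        rw [Algebra.TensorProduct.tmul_mul_tmul, one_mul]
      simp only [h1, map_add, map_mul, add_mul, ← mul_assoc, hy]
      rw [mul_right_comm b, hy']
  refine Function.Injective.isDomain φ.toRingHom ((injective_iff_map_eq_zero φ).2 fun z hz => ?_)
  obtain ⟨d, y, hd, hy⟩ := hclear z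
  have h1 : algebraMap PK FK (e y) = 0 := by
    rw [← show φ (j y) = algebraMap PK FK (e y) from AlgHom.congr_fun hφj y, ← hy, map_mul, hz,
      zero_mul]
  have hy0 : y = 0 := e.injective (by
    rw [(IsFractionRing.injective PK FK) (h1.trans (map_zero _).symm), map_zero])
  have hu : IsUnit (j ((1 : K) ⊗ₜ[k] d)) := by
    have h2 : IsUnit (algebraMap P F d) :=
      isUnit_iff_ne_zero.2 ((map_ne_zero_iff _ (IsFractionRing.injective P F)).2 hd)
    exact h2.map (Algebra.TensorProduct.includeRight : F →ₐ[k] K ⊗[k] F)
  rw [hy0, map_zero] at hy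
  exact hu.mul_left_eq_zero.1 hy

/-- The tensor product of a purely transcendental extension with any field is a domain. -/
theorem isDomain_tensor_of_purelyTranscendental (k E K : Type u) [Field k] [Field E] [Field K]
    [Algebra k E] [Algebra k K] {ι : Type u} (x : ι → E) (hx : AlgebraicIndependent k x)
    (htop : IntermediateField.adjoin k (Set.range x) = ⊤) : IsDomain (K ⊗[k] E) := by
  haveI := isDomain_tensor_fractionRing k K ι
  let e : FractionRing (MvPolynomial ι k) ≃ₐ[k] E :=
    hx.aevalEquivField.trans ((IntermediateField.equivOfEq htop).trans IntermediateField.topEquiv)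
  exact (Algebra.TensorProduct.congr (AlgEquiv.refl (R := k) (A₁ := K)) e.symm).toMulEquiv.isDomain

/-- If the residue field of `y` is purely transcendental over that of its image, the points over `y`
of every field valued base change form a preconnected set. -/
theorem isPreconnected_of_purelyTranscendental {Y S : Scheme.{u}} (h : Y ⟶ S) (y : Y)
    (hpt : letI := (h.residueFieldMap y).hom.toAlgebra
      ∃ (ι : Type u) (x : ι → Y.residueField y), AlgebraicIndependent (S.residueField (h y)) x ∧
        IntermediateField.adjoin (S.residueField (h y)) (Set.range x) = ⊤)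
    (K : Type u) [Field K] (k : Spec (CommRingCat.of K) ⟶ S) (hk : k (closedPoint K) = h y) :
    _root_.IsPreconnected (pullback.fst h k ⁻¹' {y}) := by
  letI := (h.residueFieldMap y).hom.toAlgebra
  obtain ⟨ι, x, hx, htop⟩ := hpt
  obtain ⟨⟨s, ε⟩, hε⟩ : ∃ w, (S.SpecToEquivOfField K).symm w = k := ⟨_, Equiv.symm_apply_apply _ k⟩
  have hs : s = h y := by
    rw [← hk, ← hε]
    show s = S.fromSpecResidueField s (Spec.map ε (closedPoint K))
    rw [Scheme.fromSpecResidueField_apply]
  subst hs
  letI : Algebra (S.residueField (h y)) K := ε.hom.toAlgebra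
  haveI := isDomain_tensor_of_purelyTranscendental (S.residueField (h y)) (Y.residueField y) K x hx htop
  let j := S.fromSpecResidueField (h y)
  let a := Spec.map (h.residueFieldMap y)
  have ha : Y.fromSpecResidueField y ≫ h = a ≫ j :=
    (Scheme.Hom.SpecMap_residueFieldMap_fromSpecResidueField h y).symm
  have hk' : k = Spec.map ε ≫ j := hε.symm
  have h1 : IsPullback
      (Spec.map (CommRingCat.ofHom
        (Algebra.TensorProduct.includeRight : Y.residueField y →ₐ[S.residueField (h y)]
          K ⊗[S.residueField (h y)] Y.residueField y).toRingHom))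
      (Spec.map (CommRingCat.ofHom
        (Algebra.TensorProduct.includeLeftRingHom : K →+* K ⊗[S.residueField (h y)] Y.residueField y)))
      a (Spec.map ε) :=
    isPullback_SpecMap_of_isPushout _ _ _ _
      (CommRingCat.isPushout_tensorProduct (S.residueField (h y)) K (Y.residueField y)).flip
  let T := Spec (CommRingCat.of (K ⊗[S.residueField (h y)] Y.residueField y))
  let p₁ : T ⟶ Spec (Y.residueField y) := Spec.map (CommRingCat.ofHom
    (Algebra.TensorProduct.includeRight : Y.residueField y →ₐ[S.residueField (h y)]
      K ⊗[S.residueField (h y)] Y.residueField y).toRingHom)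
  let p₂ : T ⟶ Spec (CommRingCat.of K) := Spec.map (CommRingCat.ofHom
    (Algebra.TensorProduct.includeLeftRingHom : K →+* K ⊗[S.residueField (h y)] Y.residueField y))
  have h3 : IsPullback p₁ p₂ (Y.fromSpecResidueField y ≫ h) k := by
    rw [ha, hk']
    exact IsPullback.of_isLimit (PullbackCone.isLimitOfCompMono a (Spec.map ε) j _ h1.isLimit)
  let c : T ⟶ pullback h k :=
    pullback.lift (p₁ ≫ Y.fromSpecResidueField y) p₂ (by rw [Category.assoc, h3.w])
  have hc : IsPullback p₁ c (Y.fromSpecResidueField y) (pullback.fst h k) :=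
    IsPullback.of_bot (by rw [pullback.lift_snd]; exact h3) (pullback.lift_fst _ _ _).symm
      (IsPullback.of_hasPullback _ _)
  have hr : Set.range c = pullback.fst h k ⁻¹' {y} := by
    rw [← hc.isoPullback_hom_snd, Scheme.Hom.comp_base, TopCat.coe_comp, Set.range_comp,
      hc.isoPullback.hom.surjective.range_eq, Set.image_univ, Scheme.Pullback.range_snd,
      Scheme.range_fromSpecResidueField]
  rw [← hr]
  haveI : IrreducibleSpace T :=
    inferInstanceAs (IrreducibleSpace (PrimeSpectrum (K ⊗[S.residueField (h y)] Y.residueField y)))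
  exact isPreconnected_range c.continuous

end Groth.Agent.GeomNbhd4
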