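import Groth.Agent.Lib.GeomNbhd4.Main
import Groth.Agent.Lib.GeomNbhd4.Chart
import Groth.Agent.Lib.GeomNbhd4.Residue
import Groth.Agent.Lib.EtaleCoord5.Basic
import Groth.Agent.Lib.ProjSpace.Basic
import Groth.Agent.Lib.FibDim14.Semicont
import Groth.Agent.S0408

/-!
# Local structure of finite type morphisms: finite over smooth with geometrically integral fibres

After elementary étale localisation of the base and of the point, a finite type morphism of affine
schemes factors as a finite map, with a single point over its image, followed by a smooth morphism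
with geometrically integral fibres whose relative dimension is the fibre dimension at the point.
-/

set_option autoImplicit false

universe u

open CategoryTheory CategoryTheory.Limits AlgebraicGeometry Topology IsLocalRing

set_option backward.isDefEq.respectTransparency.types false

namespace Groth.Agent.GeomNbhd4

theorem pureTrans_residueFieldMap_spec {R S : Type u} [CommRing R] [CommRing S] (φ : R →+* S)
    (x : Spec (CommRingCat.of S)) (p : Ideal R) [p.IsPrime] (hp : p = x.asIdeal.comap φ)
    (h : PureTrans (Ideal.ResidueField.map p x.asIdeal φ hp)) :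
    PureTrans ((Spec.map (CommRingCat.ofHom φ)).residueFieldMap x).hom := by
  subst hp
  let eR := Scheme.Spec.residueFieldIso (.of R) (Spec.map (CommRingCat.ofHom φ) x)
  let eS := Scheme.Spec.residueFieldIso (.of S) x
  have h2 : eR.inv ≫ (Spec.map (CommRingCat.ofHom φ)).residueFieldMap x =
      CommRingCat.ofHom (Ideal.ResidueField.map (x.asIdeal.comap φ) x.asIdeal φ rfl) ≫ eS.inv := by
    rw [residueFieldMap_spec]
    exact Iso.inv_hom_id_assoc eR _
  exact h.congr _ eR.commRingCatIsoToRingEquiv.symm eS.commRingCatIsoToRingEquiv.symm fun a =>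
    DFunLike.congr_fun (congrArg CommRingCat.Hom.hom h2) a

theorem PureTrans.bijective_comp {k E E' : Type u} [Field k] [Field E] [Field E'] {f : k →+* E}
    (h : PureTrans f) (g : E →+* E') (hg : Function.Bijective g) : PureTrans (g.comp f) :=
  h.congr _ (RingEquiv.refl k) (RingEquiv.ofBijective g hg) fun _ => rfl

theorem PureTrans.of_comp_bijective {k k' E : Type u} [Field k] [Field k'] [Field E] (g : k →+* k')
    (hg : Function.Bijective g) (f : k' →+* E) (h : PureTrans (f.comp g)) : PureTrans f :=
  h.congr _ (RingEquiv.ofBijective g hg) (RingEquiv.refl E) fun _ => rfl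

theorem PureTrans.residueFieldMap_congr {X Y : Scheme.{u}} {f g : X ⟶ Y} (e : f = g) {x : X}
    (h : PureTrans (f.residueFieldMap x).hom) : PureTrans (g.residueFieldMap x).hom := by
  subst e; exact h

theorem PureTrans.residueFieldMap_congr' {X Y : Scheme.{u}} {f : X ⟶ Y} {x x' : X} (e : x = x')
    (h : PureTrans (f.residueFieldMap x).hom) : PureTrans (f.residueFieldMap x').hom := by
  subst e; exact h

/-- Pure transcendence along a composition with a residually trivial first map. -/
theorem PureTrans.residueFieldMap_comp {X Y Z : Scheme.{u}} (f : X ⟶ Y) (g : Y ⟶ Z) (x : X)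
    (hf : Function.Bijective (f.residueFieldMap x)) (h : PureTrans (g.residueFieldMap (f x)).hom) :
    PureTrans ((f ≫ g).residueFieldMap x).hom := by
  rw [Scheme.residueFieldMap_comp]
  exact h.bijective_comp _ hf

/-- Pure transcendence descends along a residually trivial second map. -/
theorem PureTrans.of_residueFieldMap_comp {X Y Z : Scheme.{u}} (f : X ⟶ Y) (g : Y ⟶ Z) (x : X)
    (hg : Function.Bijective (g.residueFieldMap (f x)))
    (h : PureTrans ((f ≫ g).residueFieldMap x).hom) : PureTrans (f.residueFieldMap x).hom := by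
  rw [Scheme.residueFieldMap_comp] at h
  exact h.of_comp_bijective _ hg

/-- Relative dimension cancels along an étale map of the target. -/
theorem smoothOfRelativeDimension_of_comp_etale {Y S' S : Scheme.{u}} (h : Y ⟶ S') (e : S' ⟶ S)
    [Etale e] (n : ℕ) [hn : SmoothOfRelativeDimension n (h ≫ e)] : SmoothOfRelativeDimension n h := by
  let l : Y ⟶ pullback (h ≫ e) e := pullback.lift (𝟙 Y) h (Category.id_comp _)
  have hl : l ≫ pullback.fst (h ≫ e) e = 𝟙 Y := pullback.lift_fst _ _ _
  haveI : Etale (pullback.fst (h ≫ e) e) := MorphismProperty.pullback_fst _ _ inferInstance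
  haveI : Etale (l ≫ pullback.fst (h ≫ e) e) := by rw [hl]; infer_instance
  haveI : Etale l := Etale.of_comp l (pullback.fst (h ≫ e) e)
  haveI := smoothOfRelativeDimension_isStableUnderBaseChange n
  haveI : SmoothOfRelativeDimension n (pullback.snd (h ≫ e) e) := MorphismProperty.pullback_snd _ _ hn
  have h2 : SmoothOfRelativeDimension (0 + n) (l ≫ pullback.snd (h ≫ e) e) := inferInstance
  rw [zero_add, pullback.lift_snd] at h2
  exact h2

theorem isAffineHom_of_isAffine {X Y : Scheme.{u}} (f : X ⟶ Y) [IsAffine X] [IsAffine Y] : IsAffineHom f :=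
  inferInstance

/-- The assembly step: from a geometrically integral neighbourhood below and a finite piece above. -/
theorem exists_finite_pullback {W Y Y' : Scheme.{u}} (ρ : W ⟶ Y) [IsFinite ρ] (b : Y' ⟶ Y) [Etale b]
    [IsAffine Y'] (v : W) (y' : Y') (hv : ρ v = b y') (hb : Function.Bijective (b.residueFieldMap y'))
    (huniq : ∀ w, ρ w = b y' → w = v) :
    ∃ (X' : Scheme.{u}) (g : X' ⟶ W) (π : X' ⟶ Y') (x' : X'), IsAffine X' ∧ IsFinite π ∧
      g ≫ ρ = π ≫ b ∧ Etale g ∧ g x' = v ∧ Function.Bijective (g.residueFieldMap x') ∧ π x' = y' ∧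
      ∀ z, π z = y' → z = x' := by
  obtain ⟨x', h1, h2⟩ := Scheme.Pullback.exists_preimage_pullback (f := ρ) (g := b) v y' hv
  haveI : IsFinite (pullback.snd ρ b) := MorphismProperty.pullback_snd _ _ inferInstance
  have hs : Function.Surjective (b.residueFieldMap (pullback.snd ρ b x')) := by
    rw [h2]; exact hb.2
  refine ⟨pullback ρ b, pullback.fst ρ b, pullback.snd ρ b, x', isAffine_of_isAffineHom (pullback.snd ρ b),
    inferInstance, pullback.condition, MorphismProperty.pullback_fst _ _ inferInstance, h1,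
    ⟨RingHom.injective _, (Weight.pullback_residue_trivial ρ b x' x' hs rfl rfl).2⟩, h2, fun z hz => ?_⟩
  refine (Weight.pullback_residue_trivial ρ b x' z hs ?_ (hz.trans h2.symm)).1
  rw [h1]
  refine huniq _ ?_
  rw [← Scheme.Hom.comp_apply, pullback.condition, Scheme.Hom.comp_apply, hz]

/-- A geometrically integral neighbourhood of a point of purely transcendental residue field, in
relative dimension `n`. -/
theorem exists_nhd_of_pureTrans {A : CommRingCat.{u}} {Y : Scheme.{u}} (h : Y ⟶ Spec A) (n : ℕ)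
    [hn : SmoothOfRelativeDimension n h] (y : Y) (hy : PureTrans (h.residueFieldMap y).hom) :
    ∃ (S' Y' : Scheme.{u}) (e : S' ⟶ Spec A) (b : Y' ⟶ Y) (h' : Y' ⟶ S') (s' : S') (y' : Y'),
      IsAffine S' ∧ IsAffine Y' ∧ Hens2.IsEtaleNbhd e s' (h y) ∧ Hens2.IsEtaleNbhd b y' y ∧
      b ≫ h = h' ≫ e ∧ SmoothOfRelativeDimension n h' ∧ GeometricallyIntegral h' ∧ h' y' = s' ∧
      PureTrans (h'.residueFieldMap y').hom := by
  obtain ⟨U, hU, hyU, -⟩ := exists_isAffineOpen_mem_and_subset (X := Y) (x := y) (U := ⊤) trivial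
  let j := hU.fromSpec
  let y₀ := hU.primeIdealOf ⟨y, hyU⟩
  have hj : j y₀ = y := hU.fromSpec_primeIdealOf ⟨y, hyU⟩
  have hjres : ∀ w, Function.Bijective (j.residueFieldMap w) := fun w =>
    ConcreteCategory.bijective_of_isIso (j.residueFieldMap w)
  haveI : SmoothOfRelativeDimension 0 j := inferInstance
  have hn0 : SmoothOfRelativeDimension n (j ≫ h) := by
    have h2 : SmoothOfRelativeDimension (0 + n) (j ≫ h) := inferInstance
    rwa [zero_add] at h2
  obtain ⟨φ, hφ⟩ := Spec.map_surjective (j ≫ h)
  haveI : Smooth (Spec.map φ) := hφ ▸ SmoothOfRelativeDimension.smooth n (j ≫ h)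
  letI : Algebra A Γ(Y, U) := φ.hom.toAlgebra
  haveI : Algebra.Smooth A Γ(Y, U) :=
    RingHom.smooth_algebraMap.1 ((HasRingHomProperty.Spec_iff (P := @Smooth)).1 ‹_›)
  have hpt : PureTrans ((Spec.map φ).residueFieldMap y₀).hom :=
    PureTrans.residueFieldMap_congr hφ.symm
      (PureTrans.residueFieldMap_comp j h y₀ (hjres y₀) (PureTrans.residueFieldMap_congr' hj.symm hy))
  obtain ⟨S', Y', e, b, h', s', y', _, _, he, hb, hcomm, _, hgi, hh'⟩ :=
    exists_geomIntegral_nhd (A := A) (B := Γ(Y, U)) y₀ (Spec.map φ y₀) rfl fun K _ k hk =>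
      isPreconnected_of_purelyTranscendental (Spec.map φ) y₀ hpt K k hk
  haveI := he.etale
  haveI := hb.etale
  have hy0 : Spec.map φ y₀ = h y := by rw [hφ, Scheme.Hom.comp_apply, hj]
  have hcomm' : (b ≫ j) ≫ h = h' ≫ e := by
    rw [Category.assoc, ← hφ]; exact hcomm
  have hbj : Function.Bijective ((b ≫ j).residueFieldMap y') := by
    rw [Scheme.residueFieldMap_comp]
    exact hb.residue_bijective.comp (hjres (b y'))
  have hbjy : (b ≫ j) y' = y := by rw [Scheme.Hom.comp_apply, hb.base_eq, hj]
  refine ⟨S', Y', e, b ≫ j, h', s', y', inferInstance, inferInstance,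
    ⟨he.etale, he.base_eq.trans hy0, he.residue_bijective⟩, ⟨inferInstance, hbjy, hbj⟩, hcomm', ?_, hgi, hh', ?_⟩
  · haveI : SmoothOfRelativeDimension 0 (b ≫ j) := inferInstance
    have h2 : SmoothOfRelativeDimension (0 + n) ((b ≫ j) ≫ h) := inferInstance
    rw [zero_add, hcomm'] at h2
    exact smoothOfRelativeDimension_of_comp_etale h' e n
  · refine PureTrans.of_residueFieldMap_comp h' e y' ?_ ?_
    · exact bijective_residueFieldMap_congr e hh'.symm he.residue_bijective
    · exact PureTrans.residueFieldMap_congr hcomm'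
        (PureTrans.residueFieldMap_comp (b ≫ j) h y' hbj (PureTrans.residueFieldMap_congr' hbjy.symm hy))

theorem smoothOfRelativeDimension_mvPolynomial (A : Type u) [CommRing A] (n : ℕ) :
    SmoothOfRelativeDimension n
      (Spec.map (CommRingCat.ofHom (algebraMap A (MvPolynomial (Fin n) A)))) := by
  refine (HasRingHomProperty.Spec_iff (P := @SmoothOfRelativeDimension n)).2 ?_
  refine RingHom.locally_of RingHom.isStandardSmoothOfRelativeDimension_respectsIso _ ?_
  show RingHom.IsStandardSmoothOfRelativeDimension n (algebraMap A (MvPolynomial (Fin n) A))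
  rw [RingHom.isStandardSmoothOfRelativeDimension_algebraMap]
  have h := ProjSpace.isStandardSmoothOfRelativeDimension_mvPolynomial (R := A) (σ := Fin n)
  rwa [Nat.card_fin] at h

theorem localDim_fiber {A B : Type u} [CommRing A] [CommRing B] [Algebra A B]
    (x : Spec (CommRingCat.of B)) (p : Ideal A) [p.IsPrime] [x.asIdeal.LiesOver p] :
    FlatMor.fibreDimAt (Spec.map (CommRingCat.ofHom (algebraMap A B))) x =
      FlatMor.localDim (PrimeSpectrum (p.Fiber B))
        (PrimeSpectrum.primesOverOrderIsoFiber A B p ⟨x.asIdeal, inferInstance, inferInstance⟩) := by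
  obtain rfl : p = x.asIdeal.comap (algebraMap A B) := Ideal.LiesOver.over
  rw [FibDim14.fibreDimAt_eq_localDim_preimage]
  exact FibDim14.localDim_of_isOpenEmbedding
    (PrimeSpectrum.preimageHomeomorphFiber A B (PrimeSpectrum.comap (algebraMap A B) x)).isOpenEmbedding ⟨x, rfl⟩

/-- Local structure of a finite type algebra at a prime. -/
theorem exists_structure {A B : Type u} [CommRing A] [CommRing B] [Algebra A B] [Algebra.FiniteType A B]
    (x : Spec (CommRingCat.of B)) (n : ℕ)
    (hn : FlatMor.fibreDimAt (Spec.map (CommRingCat.ofHom (algebraMap A B))) x = n) :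
    ∃ (S' Y' X' : Scheme.{u}) (e : S' ⟶ Spec (CommRingCat.of A)) (h : Y' ⟶ S') (π : X' ⟶ Y')
      (g : X' ⟶ Spec (CommRingCat.of B)) (s' : S') (x' : X'),
      IsAffine S' ∧ IsAffine Y' ∧ IsAffine X' ∧
      Hens2.IsEtaleNbhd e s' (Spec.map (CommRingCat.ofHom (algebraMap A B)) x) ∧
      Hens2.IsEtaleNbhd g x' x ∧ g ≫ Spec.map (CommRingCat.ofHom (algebraMap A B)) = π ≫ h ≫ e ∧
      SmoothOfRelativeDimension n h ∧ GeometricallyIntegral h ∧ IsFinite π ∧ h (π x') = s' ∧
      PureTrans (h.residueFieldMap (π x')).hom ∧ ∀ z : X', π z = π x' → z = x' := by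
  let p := x.asIdeal.comap (algebraMap A B)
  haveI : x.asIdeal.LiesOver p := ⟨rfl⟩
  rw [localDim_fiber x p] at hn
  obtain ⟨φ, hp, hqf, hpt⟩ := exists_chart p x.asIdeal n hn
  let ψ := Spec.map (CommRingCat.ofHom φ.toRingHom)
  let pr := Spec.map (CommRingCat.ofHom (algebraMap A (MvPolynomial (Fin n) A)))
  haveI := smoothOfRelativeDimension_mvPolynomial A n
  have hψpr : ψ ≫ pr = Spec.map (CommRingCat.ofHom (algebraMap A B)) := by
    rw [← Spec.map_comp]
    exact congrArg (fun r => Spec.map (CommRingCat.ofHom r)) φ.comp_algebraMap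
  have hft : φ.toRingHom.FiniteType := by
    letI := φ.toRingHom.toAlgebra
    haveI : IsScalarTower A (MvPolynomial (Fin n) A) B :=
      IsScalarTower.of_algebraMap_eq fun t => (φ.commutes t).symm
    exact RingHom.finiteType_algebraMap.2 (Algebra.FiniteType.of_restrictScalars_finiteType A _ _)
  haveI : LocallyOfFiniteType ψ := (HasRingHomProperty.Spec_iff (P := @LocallyOfFiniteType)).2 hft
  have hqf' : ψ.QuasiFiniteAt x := by
    letI := φ.toRingHom.toAlgebra
    haveI : Algebra.FiniteType (MvPolynomial (Fin n) A) B := RingHom.finiteType_algebraMap.1 hft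
    rw [Scheme.Hom.quasiFiniteAt_iff_isOpen_singleton_asFiber, ← (ψ.fiberHomeo _).isOpen_image]
    simp only [Set.image_singleton, Scheme.Hom.asFiber, Homeomorph.apply_symm_apply]
    exact (Algebra.quasiFiniteAt_iff_isOpen_singleton_fiber (R := MvPolynomial (Fin n) A) x).1 hqf
  have hpt' : PureTrans (pr.residueFieldMap (ψ x)).hom :=
    pureTrans_residueFieldMap_spec _ (ψ x) p hp hpt
  obtain ⟨T, g, u, hg, hgu, hres, W, v, -, hfin, hvW, hvx, hvu, hres', huniq⟩ := S0408.result ψ x hqf'
  haveI := hg
  haveI := hfin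
  have hn' : SmoothOfRelativeDimension n (g ≫ pr) := by
    have h2 : SmoothOfRelativeDimension (0 + n) (g ≫ pr) := inferInstance
    rwa [zero_add] at h2
  have hpt'' : PureTrans ((g ≫ pr).residueFieldMap u).hom :=
    PureTrans.residueFieldMap_comp g pr u ⟨RingHom.injective _, hres⟩ (PureTrans.residueFieldMap_congr' hgu.symm hpt')
  obtain ⟨S', Y', e, b, h', s', y', _, _, he, hb, hcomm, hdim, hgi, hh', hpt₁⟩ :=
    exists_nhd_of_pureTrans (g ≫ pr) n u hpt''
  haveI := hb.etale
  let ρ : (W : Scheme.{u}) ⟶ T := W.ι ≫ pullback.snd ψ g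
  have hρv : ρ ⟨v, hvW⟩ = b y' := by rw [hb.base_eq]; exact hvu
  obtain ⟨X', k, π, x', _, _, hk, _, hkx, hkres, hπx, hπu⟩ :=
    exists_finite_pullback ρ b (⟨v, hvW⟩ : (W : Scheme.{u})) y' hρv
      (hb.residue_bijective) (fun w hw => W.ι.isOpenEmbedding.injective
        (huniq _ (hw.trans hb.base_eq) (Or.inl w.2)))
  refine ⟨S', Y', X', e, h', π, k ≫ W.ι ≫ pullback.fst ψ g, s', x', inferInstance, inferInstance, inferInstance,
    ⟨he.etale, he.base_eq.trans ?_, he.residue_bijective⟩, ⟨inferInstance, ?_, ?_⟩, ?_, hdim, hgi, inferInstance,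
    by rw [hπx]; exact hh', PureTrans.residueFieldMap_congr' hπx.symm hpt₁, fun z hz => hπu z (hz.trans hπx)⟩
  · rw [Scheme.Hom.comp_apply, hgu, ← Scheme.Hom.comp_apply, hψpr]
  · rw [Scheme.Hom.comp_apply, hkx]; exact hvx
  · rw [Scheme.residueFieldMap_comp, Scheme.residueFieldMap_comp]
    refine hkres.comp ?_
    refine (ConcreteCategory.bijective_of_isIso (W.ι.residueFieldMap (k x'))).comp ?_
    exact bijective_residueFieldMap_congr _ (show v = W.ι (k x') by rw [hkx]; rfl)
      ⟨RingHom.injective _, hres'⟩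
  · rw [← hcomm, ← Category.assoc π, ← hk]
    simp only [ρ, Category.assoc, ← hψpr, pullback.condition_assoc]

end Groth.Agent.GeomNbhd4
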