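import Groth.Prelude.Def_FlatCA
import Groth.Agent.Lib.GeomNbhd4.Structure

/-!
# Ring form of the local structure of finite type algebras
-/

set_option autoImplicit false

universe u

open CategoryTheory CategoryTheory.Limits AlgebraicGeometry Topology IsLocalRing

set_option backward.isDefEq.respectTransparency.types false

namespace Groth.Agent.GeomNbhd4

theorem pureTrans_residueField_map {R S : Type u} [CommRing R] [CommRing S] (φ : R →+* S)
    (x : Spec (CommRingCat.of S)) (p : Ideal R) [p.IsPrime] (hp : p = x.asIdeal.comap φ)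
    (h : PureTrans ((Spec.map (CommRingCat.ofHom φ)).residueFieldMap x).hom) :
    PureTrans (Ideal.ResidueField.map p x.asIdeal φ hp) := by
  subst hp
  let eR := Scheme.Spec.residueFieldIso (.of R) (Spec.map (CommRingCat.ofHom φ) x)
  let eS := Scheme.Spec.residueFieldIso (.of S) x
  have h2 : (Spec.map (CommRingCat.ofHom φ)).residueFieldMap x ≫ eS.hom =
      eR.hom ≫ CommRingCat.ofHom (Ideal.ResidueField.map (x.asIdeal.comap φ) x.asIdeal φ rfl) := by
    rw [residueFieldMap_spec]
    simp only [Category.assoc]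
    erw [Iso.inv_hom_id]
    rfl
  exact h.congr _ eR.commRingCatIsoToRingEquiv eS.commRingCatIsoToRingEquiv fun a =>
    (DFunLike.congr_fun (congrArg CommRingCat.Hom.hom h2) a).symm

/-- The predicate of the prelude from the ring map form. -/
theorem purelyTranscendental_of_pureTrans {R S : Type u} [CommRing R] [CommRing S] [Algebra R S]
    (p : Ideal R) (q : Ideal S) [p.IsPrime] [q.IsPrime] [h : q.LiesOver p]
    (hpt : PureTrans (Ideal.ResidueField.map p q (algebraMap R S) h.over)) :
    FlatCA.PurelyTranscendental p q := by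
  obtain ⟨ι, x, hx, htop⟩ := hpt
  letI : Algebra p.ResidueField q.ResidueField :=
    (Ideal.ResidueField.mapₐ p q (Algebra.ofId R S) h.over).toRingHom.toAlgebra
  refine ⟨ι, x, hx.isTranscendenceBasis_iff_isAlgebraic.2 ⟨fun z => ?_⟩, htop⟩
  refine IntermediateField.isAlgebraic_adjoin_iff.1 ?_
  have hz : z ∈ IntermediateField.adjoin p.ResidueField (Set.range x) := htop ▸ IntermediateField.mem_top
  exact isAlgebraic_algebraMap (⟨z, hz⟩ : IntermediateField.adjoin p.ResidueField (Set.range x))

theorem isEtaleNhd_of_spec {R R' : Type u} [CommRing R] [CommRing R'] [Algebra R R'] (p : Ideal R)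
    [p.IsPrime] (p' : PrimeSpectrum R')
    (h : Hens2.IsEtaleNbhd (Spec.map (CommRingCat.ofHom (algebraMap R R'))) p' (⟨p, ‹_›⟩ : PrimeSpectrum R)) :
    FlatCA.IsEtaleNhd R R' p p'.asIdeal := by
  have hl : p'.asIdeal.LiesOver p := ⟨(congrArg PrimeSpectrum.asIdeal h.base_eq).symm⟩
  haveI := h.etale
  exact ⟨RingHom.etale_algebraMap.1 ((HasRingHomProperty.Spec_iff (P := @Etale)).1 h.etale), hl,
    (bijective_residueFieldMap_iff (algebraMap R R') p' p hl.over).1 h.residue_bijective⟩

/-- Morphisms between affine schemes transported to spectra of global sections. -/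
theorem isEtaleNbhd_conj {U U' T : Scheme.{u}} (i : U' ≅ U) (g : U ⟶ T) (u : U) (t : T)
    (h : Hens2.IsEtaleNbhd g u t) : Hens2.IsEtaleNbhd (i.hom ≫ g) (i.inv u) t := by
  haveI := h.etale
  refine ⟨inferInstance, ?_, ?_⟩
  · rw [← Scheme.Hom.comp_apply, Iso.inv_hom_id_assoc]; exact h.base_eq
  · rw [Scheme.residueFieldMap_comp]
    refine (ConcreteCategory.bijective_of_isIso (i.hom.residueFieldMap _)).comp ?_
    exact bijective_residueFieldMap_congr g (by rw [← Scheme.Hom.comp_apply, i.inv_hom_id]; rfl) h.residue_bijective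

/-- Pure transcendence along a composition with a residually trivial second map. -/
theorem PureTrans.residueFieldMap_comp' {X Y Z : Scheme.{u}} (f : X ⟶ Y) (g : Y ⟶ Z) (x : X)
    (h : PureTrans (f.residueFieldMap x).hom) (hg : Function.Bijective (g.residueFieldMap (f x))) :
    PureTrans ((f ≫ g).residueFieldMap x).hom := by
  rw [Scheme.residueFieldMap_comp]
  refine h.congr _ (RingEquiv.ofBijective (g.residueFieldMap (f x)).hom hg).symm (RingEquiv.refl _) fun b => ?_
  exact congrArg (f.residueFieldMap x).hom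
    ((RingEquiv.ofBijective (g.residueFieldMap (f x)).hom hg).apply_symm_apply b)

/-- Affine local structure in terms of spectra. -/
theorem exists_spec_structure {A B : Type u} [CommRing A] [CommRing B] [Algebra A B] [Algebra.FiniteType A B]
    (x : Spec (CommRingCat.of B)) (n : ℕ)
    (hn : FlatMor.fibreDimAt (Spec.map (CommRingCat.ofHom (algebraMap A B))) x = n) :
    ∃ (R' D C : CommRingCat.{u}) (a : CommRingCat.of A ⟶ R') (φ : R' ⟶ D) (π : D ⟶ C)
      (g : CommRingCat.of B ⟶ C) (s' : Spec R') (x' : Spec C),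
      Hens2.IsEtaleNbhd (Spec.map a) s' (Spec.map (CommRingCat.ofHom (algebraMap A B)) x) ∧
      Hens2.IsEtaleNbhd (Spec.map g) x' x ∧
      CommRingCat.ofHom (algebraMap A B) ≫ g = a ≫ φ ≫ π ∧
      SmoothOfRelativeDimension n (Spec.map φ) ∧ GeometricallyIntegral (Spec.map φ) ∧
      π.hom.Finite ∧ Spec.map φ (Spec.map π x') = s' ∧
      PureTrans ((Spec.map φ).residueFieldMap (Spec.map π x')).hom ∧
      ∀ z, Spec.map π z = Spec.map π x' → z = x' := by
  obtain ⟨S', Y', X', e, h, π, g, s', x', _, _, _, he, hg, hw, hd, hgi, hfin, hs, hpt, huniq⟩ :=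
    exists_structure x n hn
  let iS := S'.isoSpec
  let iY := Y'.isoSpec
  let iX := X'.isoSpec
  obtain ⟨a, ha⟩ := Spec.map_surjective (iS.inv ≫ e)
  obtain ⟨φ, hφ⟩ := Spec.map_surjective (iY.inv ≫ h ≫ iS.hom)
  obtain ⟨π', hπ⟩ := Spec.map_surjective (iX.inv ≫ π ≫ iY.hom)
  obtain ⟨g', hg'⟩ := Spec.map_surjective (iX.inv ≫ g)
  have hy : Spec.map π' (iX.hom x') = iY.hom (π x') := by
    rw [hπ, ← Scheme.Hom.comp_apply, Iso.hom_inv_id_assoc]; rfl
  refine ⟨_, _, _, a, φ, π', g', iS.hom s', iX.hom x', ha ▸ isEtaleNbhd_conj iS.symm e _ _ he,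
    hg' ▸ isEtaleNbhd_conj iX.symm g _ _ hg, ?_, ?_, ?_, ?_, ?_, ?_, ?_⟩
  · refine Spec.map_injective ?_
    simp only [Spec.map_comp, ha, hφ, hπ, hg', Category.assoc, Iso.hom_inv_id_assoc, hw]
  · rw [hφ]
    exact (MorphismProperty.cancel_left_of_respectsIso (P := @SmoothOfRelativeDimension n) _ _).2
      ((MorphismProperty.cancel_right_of_respectsIso (P := @SmoothOfRelativeDimension n) _ _).2 hd)
  · rw [hφ]
    exact (MorphismProperty.cancel_left_of_respectsIso (P := @GeometricallyIntegral) _ _).2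
      ((MorphismProperty.cancel_right_of_respectsIso (P := @GeometricallyIntegral) _ _).2 hgi)
  · refine (IsFinite.SpecMap_iff π').1 ?_
    rw [hπ]
    infer_instance
  · rw [hy, hφ, ← Scheme.Hom.comp_apply, Iso.hom_inv_id_assoc, Scheme.Hom.comp_apply, hs]
  · refine PureTrans.residueFieldMap_congr hφ.symm (PureTrans.residueFieldMap_congr' hy.symm ?_)
    refine PureTrans.residueFieldMap_comp iY.inv (h ≫ iS.hom) _
      (ConcreteCategory.bijective_of_isIso (iY.inv.residueFieldMap _)) ?_
    have hyy : π x' = iY.inv (iY.hom (π x')) := by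
      rw [← Scheme.Hom.comp_apply, Iso.hom_inv_id]; rfl
    refine PureTrans.residueFieldMap_congr' hyy ?_
    exact PureTrans.residueFieldMap_comp' h iS.hom (π x') hpt
      (ConcreteCategory.bijective_of_isIso (iS.hom.residueFieldMap _))
  · intro z hz
    rw [hy, hπ, Scheme.Hom.comp_apply, Scheme.Hom.comp_apply] at hz
    have := huniq _ (iY.hom.isOpenEmbedding.injective hz)
    rw [← this, ← Scheme.Hom.comp_apply, Iso.inv_hom_id]
    rfl

/-- Ring form of the local structure: an étale neighbourhood `R'` of the base, a smooth `R'`-algebra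
`D` with geometrically integral fibres and a finite `D`-algebra étale over the given one. -/
theorem exists_ring_structure {A B : Type u} [CommRing A] [CommRing B] [Algebra A B] [Algebra.FiniteType A B]
    (p : Ideal A) [p.IsPrime] (q : Ideal B) [q.IsPrime] [hqp : q.LiesOver p] (n : ℕ)
    (hn : FlatMor.fibreDimAt (Spec.map (CommRingCat.ofHom (algebraMap A B)))
      (⟨q, ‹_›⟩ : PrimeSpectrum B) = n) :
    ∃ (R' D C : Type u) (_ : CommRing R') (_ : CommRing D) (_ : CommRing C)
      (_ : Algebra A R') (_ : Algebra R' D) (_ : Algebra D C) (_ : Algebra R' C) (_ : IsScalarTower R' D C)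
      (_ : Algebra B C) (_ : Algebra A C) (_ : IsScalarTower A B C) (_ : IsScalarTower A R' C)
      (p' : Ideal R') (y : Ideal D) (z : Ideal C) (_ : p'.IsPrime) (_ : y.IsPrime) (_ : z.IsPrime)
      (_ : z.LiesOver y) (_ : y.LiesOver p'),
      FlatCA.IsEtaleNhd A R' p p' ∧ FlatCA.IsEtaleNhd B C q z ∧ FlatCA.SmoothRelDim n R' D ∧
      FlatCA.GeomIntegralFibres R' D ∧ Module.Finite D C ∧
      (∃ hy : p' = y.comap (algebraMap R' D), PureTrans (Ideal.ResidueField.map p' y (algebraMap R' D) hy)) ∧
      ∀ (z₁ : Ideal C) [z₁.IsPrime], z₁.LiesOver y → z₁ = z := by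
  obtain ⟨R', D, C, a, φ, π, g, s', x', he, hg, hw, hd, hgi, hfin, hs, hpt, huniq⟩ :=
    exists_spec_structure (A := A) (⟨q, ‹_›⟩ : PrimeSpectrum B) n hn
  letI : Algebra A R' := a.hom.toAlgebra
  letI : Algebra R' D := φ.hom.toAlgebra
  letI : Algebra D C := π.hom.toAlgebra
  letI : Algebra R' C := (π.hom.comp φ.hom).toAlgebra
  letI : Algebra B C := g.hom.toAlgebra
  letI : Algebra A C := (g.hom.comp (algebraMap A B)).toAlgebra
  haveI : IsScalarTower R' D C := IsScalarTower.of_algebraMap_eq fun _ => rfl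
  haveI : IsScalarTower A B C := IsScalarTower.of_algebraMap_eq fun _ => rfl
  haveI : IsScalarTower A R' C := IsScalarTower.of_algebraMap_eq' (congrArg CommRingCat.Hom.hom hw)
  let y : PrimeSpectrum D := Spec.map π x'
  haveI : x'.asIdeal.LiesOver y.asIdeal := ⟨rfl⟩
  haveI hyp : y.asIdeal.LiesOver s'.asIdeal := ⟨(congrArg PrimeSpectrum.asIdeal hs).symm⟩
  refine ⟨R', D, C, inferInstance, inferInstance, inferInstance, inferInstance, inferInstance, inferInstance,
    inferInstance, inferInstance, inferInstance, inferInstance, inferInstance, inferInstance,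
    s'.asIdeal, y.asIdeal, x'.asIdeal, inferInstance, inferInstance, inferInstance, inferInstance, inferInstance,
    isEtaleNhd_of_spec p s' ?_, isEtaleNhd_of_spec q x' hg, hd, hgi, hfin,
    ⟨hyp.over, pureTrans_residueField_map φ.hom y _ hyp.over hpt⟩, ?_⟩
  · have hpx : Spec.map (CommRingCat.ofHom (algebraMap A B)) (⟨q, ‹_›⟩ : PrimeSpectrum B) =
        (⟨p, ‹_›⟩ : PrimeSpectrum A) := PrimeSpectrum.ext hqp.over.symm
    rw [hpx] at he
    exact he
  · intro z₁ _ hz₁
    exact congrArg PrimeSpectrum.asIdeal (huniq ⟨z₁, ‹_›⟩ (PrimeSpectrum.ext hz₁.over.symm))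

end Groth.Agent.GeomNbhd4
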