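import Groth.Agent.Lib.GeomNbhd4.Lift
import Groth.Agent.Lib.GeomNbhd4.FibreSupport

/-!
# Elementary dévissages

Assembly of the local structure of a finite module over a finite type algebra.
-/

set_option autoImplicit false

universe u

open CategoryTheory CategoryTheory.Limits AlgebraicGeometry TensorProduct

set_option backward.isDefEq.respectTransparency.types false

namespace Groth.Agent.GeomNbhd4

/-- Residue field maps compose. -/
theorem residueField_map_comp {A B C : Type u} [CommRing A] [CommRing B] [CommRing C] (f : A →+* B) (g : B →+* C)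
    (I : Ideal A) (J : Ideal B) (K : Ideal C) [I.IsPrime] [J.IsPrime] [K.IsPrime] (hI : I = J.comap f)
    (hJ : J = K.comap g) (hIK : I = K.comap (g.comp f)) :
    (Ideal.ResidueField.map J K g hJ).comp (Ideal.ResidueField.map I J f hI) =
      Ideal.ResidueField.map I K (g.comp f) hIK := by
  refine Ideal.ResidueField.ringHom_ext (RingHom.ext fun a => ?_)
  simp

theorem residueField_map_congr {A B : Type u} [CommRing A] [CommRing B] {f f' : A →+* B} (e : f = f')
    (I : Ideal A) (J : Ideal B) [I.IsPrime] [J.IsPrime] (h : I = J.comap f) (h' : I = J.comap f') :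
    Ideal.ResidueField.map I J f h = Ideal.ResidueField.map I J f' h' := by
  subst e; rfl

theorem surjective_localization_residue {A A' : Type u} [CommRing A] [CommRing A'] [Algebra A A'] (a : A)
    [IsLocalization.Away a A'] (I : Ideal A) (J : Ideal A') [I.IsPrime] [J.IsPrime]
    (h : I = J.comap (algebraMap A A')) :
    Function.Bijective (Ideal.ResidueField.map I J (algebraMap A A') h) :=
  (RingHom.surjectiveOnStalks_of_isLocalization (Submonoid.powers a) A').residueFieldMap_bijective I J h

/-- Changing the denominator of a standard étale localisation. -/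
theorem isStandardEtale_away_of_dvd {T C : Type u} [CommRing T] [CommRing C] [Algebra T C] (c d : C)
    [Algebra.IsStandardEtale T (Localization.Away c)] (k : ℕ) (hk : c ∣ d ^ k) :
    Algebra.IsStandardEtale T (Localization.Away d) := by
  let Cc := Localization.Away c
  let E := Localization.Away (algebraMap C Cc d)
  haveI : Algebra.IsStandardEtale T E := Algebra.IsStandardEtale.of_isLocalizationAway (algebraMap C Cc d)
  have hcd : IsUnit (algebraMap C (Localization.Away d) c) := by
    refine isUnit_of_dvd_unit (map_dvd _ hk) ?_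
    rw [map_pow]
    exact (IsLocalization.Away.algebraMap_isUnit d).pow k
  let f₁ : Cc →ₐ[C] Localization.Away d :=
    IsLocalization.Away.liftAlgHom c (f := Algebra.ofId C _) hcd
  let f₂ : E →ₐ[C] Localization.Away d :=
    { IsLocalization.Away.lift (algebraMap C Cc d) (g := f₁.toRingHom)
        (show IsUnit (f₁ (algebraMap C Cc d)) by
          rw [f₁.commutes]; exact IsLocalization.Away.algebraMap_isUnit d) with
      commutes' := fun x => by
        rw [IsScalarTower.algebraMap_apply C Cc E]
        exact (IsLocalization.Away.lift_eq _ _ _).trans (f₁.commutes x) }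
  let g : Localization.Away d →ₐ[C] E := IsLocalization.Away.liftAlgHom d (f := Algebra.ofId C E)
    (by
      show IsUnit (algebraMap C E d)
      rw [IsScalarTower.algebraMap_apply C Cc E]
      exact IsLocalization.Away.algebraMap_isUnit _)
  have h1 : f₂.comp g = AlgHom.id C _ :=
    IsLocalization.algHom_ext (Submonoid.powers d) (Subsingleton.elim _ _)
  have h2 : g.comp f₂ = AlgHom.id C _ := by
    haveI := IsLocalization.Away.mul Cc E c d
    exact IsLocalization.algHom_ext (Submonoid.powers (d * c)) (Subsingleton.elim _ _)
  exact Algebra.IsStandardEtale.of_equiv ((AlgEquiv.ofAlgHom f₂ g h1 h2).restrictScalars T)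

/-- An open piece surjecting onto an open of the base keeps geometrically integral fibres. -/
theorem geometricallyIntegral_of_open {Y S Y' S' : Scheme.{u}} (h : Y ⟶ S) [GeometricallyIntegral h]
    (i : Y' ⟶ Y) [IsOpenImmersion i] (j : S' ⟶ S) [IsOpenImmersion j] (h' : Y' ⟶ S') [Surjective h']
    (w : h' ≫ j = i ≫ h) : GeometricallyIntegral h' := by
  refine ⟨fun K _ k Z fst snd hZ => ?_⟩
  haveI : IsIntegral (pullback h (k ≫ j)) :=
    GeometricallyIntegral.geometrically_isIntegral (f := h) (k ≫ j) _ _ (IsPullback.of_hasPullback _ _)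
  let m : Z ⟶ pullback h (k ≫ j) := hZ.isoPullback.hom ≫
    pullback.map h' k h (k ≫ j) i (𝟙 _) j w (Category.id_comp _).symm
  haveI : IsOpenImmersion m := inferInstance
  haveI : Nonempty Z := by
    obtain ⟨y, hy⟩ := h'.surjective (k (IsLocalRing.closedPoint K))
    obtain ⟨z, -, -⟩ := Scheme.Pullback.exists_preimage_pullback (f := h') (g := k) y (IsLocalRing.closedPoint K) hy
    exact ⟨hZ.isoPullback.inv z⟩
  exact isIntegral_of_isOpenImmersion m

/-- Shrinking a smooth algebra with geometrically integral fibres by compatible basic opens. -/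
theorem smooth_geomInt_away {R' D R'' D'' : Type u} [CommRing R'] [CommRing D] [CommRing R''] [CommRing D'']
    [Algebra R' D] [Algebra R' R''] [Algebra D D''] [Algebra R'' D''] (r : R') (d : D)
    [IsLocalization.Away r R''] [IsLocalization.Away d D'']
    (hcomp : (algebraMap R'' D'').comp (algebraMap R' R'') = (algebraMap D D'').comp (algebraMap R' D))
    (n : ℕ) (hD : FlatCA.SmoothRelDim n R' D) (hG : FlatCA.GeomIntegralFibres R' D)
    (hsurj : ∀ P : Ideal R', P.IsPrime → r ∉ P → ∃ Q : Ideal D, Q.IsPrime ∧ Q.comap (algebraMap R' D) = P ∧ d ∉ Q) :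
    FlatCA.SmoothRelDim n R'' D'' ∧ FlatCA.GeomIntegralFibres R'' D'' := by
  let i := Spec.map (CommRingCat.ofHom (algebraMap D D''))
  let j := Spec.map (CommRingCat.ofHom (algebraMap R' R''))
  let h := Spec.map (CommRingCat.ofHom (algebraMap R' D))
  let h' := Spec.map (CommRingCat.ofHom (algebraMap R'' D''))
  haveI : IsOpenImmersion i := IsOpenImmersion.of_isLocalization d
  haveI : IsOpenImmersion j := IsOpenImmersion.of_isLocalization r
  have w : h' ≫ j = i ≫ h := by
    rw [← Spec.map_comp, ← Spec.map_comp, ← CommRingCat.ofHom_comp, ← CommRingCat.ofHom_comp, hcomp]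
  haveI : GeometricallyIntegral h := hG
  haveI : Surjective h' := ⟨fun P => by
    have hr : r ∉ P.asIdeal.comap (algebraMap R' R'') := fun hm =>
      P.isPrime.ne_top (Ideal.eq_top_of_isUnit_mem _ hm (IsLocalization.Away.algebraMap_isUnit r))
    obtain ⟨Q, hQ, hQP, hdQ⟩ := hsurj _ inferInstance hr
    obtain ⟨Q'', hQ''⟩ : (⟨Q, hQ⟩ : PrimeSpectrum D) ∈ Set.range (PrimeSpectrum.comap (algebraMap D D'')) := by
      rw [PrimeSpectrum.localization_away_comap_range D'' d]; exact hdQ
    refine ⟨Q'', j.isOpenEmbedding.injective ?_⟩
    rw [← Scheme.Hom.comp_apply, w, Scheme.Hom.comp_apply]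
    show PrimeSpectrum.comap (algebraMap R' D) (PrimeSpectrum.comap (algebraMap D D'') Q'') =
      PrimeSpectrum.comap (algebraMap R' R'') P
    rw [hQ'']
    exact PrimeSpectrum.ext hQP⟩
  refine ⟨?_, geometricallyIntegral_of_open h i j h' w⟩
  haveI : SmoothOfRelativeDimension 0 i := inferInstance
  haveI : SmoothOfRelativeDimension n h := hD
  have h2 : SmoothOfRelativeDimension (0 + n) (i ≫ h) := inferInstance
  rw [zero_add, ← w] at h2
  haveI := h2
  exact smoothOfRelativeDimension_of_comp_etale h' j n

/-- A surjection whose kernel is generated by elements killing the module does not change its base change. -/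
theorem bijective_map_tensor {S S' E N : Type u} [CommRing S] [CommRing S'] [CommRing E] [Algebra S S']
    [Algebra S' E] [Algebra S E] [IsScalarTower S S' E] [AddCommGroup N] [Module S N] (I : Ideal S)
    (hI : I ≤ Module.annihilator S N) (hs : Function.Surjective (algebraMap S' E))
    (hker : RingHom.ker (algebraMap S' E) ≤ I.map (algebraMap S S')) :
    Function.Bijective
      (TensorProduct.AlgebraTensorModule.map (Algebra.linearMap S' E) (LinearMap.id (R := S) (M := N))) := by
  let g : S' →ₗ[S] E := (Algebra.linearMap S' E).restrictScalars S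
  show Function.Bijective (g.rTensor N)
  refine ⟨(injective_iff_map_eq_zero _).2 fun w hw => ?_, LinearMap.rTensor_surjective N hs⟩
  obtain ⟨v, rfl⟩ := ((rTensor_exact N g.exact_subtype_ker_map hs) w).1 hw
  induction v using TensorProduct.induction_on with
  | zero => simp
  | add a b ha hb =>
    rw [map_add] at hw ⊢
    rw [ha (by rw [← LinearMap.comp_apply, ← LinearMap.rTensor_comp]; simp [LinearMap.comp_ker_subtype]),
      hb (by rw [← LinearMap.comp_apply, ← LinearMap.rTensor_comp]; simp [LinearMap.comp_ker_subtype]), add_zero]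
  | tmul a m =>
    rw [LinearMap.rTensor_tmul, Submodule.subtype_apply]
    obtain ⟨a, haK⟩ := a
    have ha : a ∈ I.map (algebraMap S S') := hker haK
    show a ⊗ₜ[S] m = 0
    clear haK hw
    induction ha using Submodule.span_induction with
    | mem y hy =>
      obtain ⟨i, hi, rfl⟩ := hy
      rw [Algebra.algebraMap_eq_smul_one, TensorProduct.smul_tmul,
        Module.mem_annihilator.1 (hI hi), TensorProduct.tmul_zero]
    | zero => rw [TensorProduct.zero_tmul]
    | add y y' _ _ h1 h2 => rw [TensorProduct.add_tmul, h1, h2, add_zero]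
    | smul t y _ h1 =>
      rw [← TensorProduct.smul_tmul' (R' := S') t y m, h1, smul_zero]

end Groth.Agent.GeomNbhd4
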