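import Groth.Agent.Lib.GeomNbhd4.Ring
import Mathlib

/-!
# Lifting standard étale algebras along surjections, and shrinking finite-over-smooth data
-/

set_option autoImplicit false

universe u

open Polynomial TensorProduct

set_option backward.isDefEq.respectTransparency.types false

namespace Groth.Agent.GeomNbhd4

/-- A standard étale algebra over a quotient lifts to a standard étale algebra. -/
theorem exists_standardEtale_lift {T Tb E : Type u} [CommRing T] [CommRing Tb] [CommRing E]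
    [Algebra T Tb] (hsurj : Function.Surjective (algebraMap T Tb)) [Algebra Tb E] [Algebra T E]
    [IsScalarTower T Tb E] [Algebra.IsStandardEtale Tb E] :
    ∃ (E' : Type u) (_ : CommRing E') (_ : Algebra T E') (ρ : E' →ₐ[T] E),
      Algebra.Etale T E' ∧ Function.Surjective ρ ∧
      RingHom.ker ρ.toRingHom ≤ (RingHom.ker (algebraMap T Tb)).map (algebraMap T E') := by
  obtain ⟨P⟩ := Algebra.IsStandardEtale.nonempty_standardEtalePresentation (R := Tb) (S := E)
  have hlifts : P.f ∈ Polynomial.lifts (algebraMap T Tb) := by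
    rw [Polynomial.lifts_iff_coeff_lifts]; exact fun i => hsurj _
  obtain ⟨f, hf, -, hfm⟩ := Polynomial.lifts_and_natDegree_eq_and_monic hlifts P.monic_f
  obtain ⟨g, hg⟩ := Polynomial.map_surjective _ hsurj P.g
  let Q : StandardEtalePair T := ⟨f, hfm, g * derivative f, g, 0, 1, by ring⟩
  have hev : ∀ (A : Type u) [CommRing A] [Algebra Tb A] [Algebra T A] [IsScalarTower T Tb A] (w : A) (r : T[X]),
      aeval w r = aeval w (r.map (algebraMap T Tb)) := fun A _ _ _ _ w r => (aeval_map_algebraMap Tb w r).symm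
  have hx : Q.HasMap P.x := by
    refine ⟨?_, ?_⟩
    · rw [hev E, show Q.f = f from rfl, hf]; exact P.hasMap.1
    · rw [hev E, show Q.g = g * derivative f from rfl, Polynomial.map_mul, hg, ← derivative_map, hf, map_mul]
      exact P.hasMap.2.mul P.hasMap.isUnit_derivative_f
  let ρ : Q.Ring →ₐ[T] E := Q.lift P.x hx
  let K := (RingHom.ker (algebraMap T Tb)).map (algebraMap T Q.Ring)
  let mk : Q.Ring →ₐ[T] Q.Ring ⧸ K := Ideal.Quotient.mkₐ T K
  letI : Algebra Tb (Q.Ring ⧸ K) :=
    (RingHom.liftOfSurjective (algebraMap T Tb) hsurj ⟨algebraMap T (Q.Ring ⧸ K), fun t ht => by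
      rw [RingHom.mem_ker, IsScalarTower.algebraMap_apply T Q.Ring (Q.Ring ⧸ K),
        Ideal.Quotient.algebraMap_eq, Ideal.Quotient.eq_zero_iff_mem]
      exact Ideal.mem_map_of_mem _ ht⟩).toAlgebra
  haveI : IsScalarTower T Tb (Q.Ring ⧸ K) := IsScalarTower.of_algebraMap_eq' (by
    rw [RingHom.algebraMap_toAlgebra]
    exact (RingHom.liftOfSurjective_comp (algebraMap T Tb) hsurj ⟨algebraMap T (Q.Ring ⧸ K), _⟩).symm)
  have hQ := StandardEtalePair.hasMap_X (P := Q)
  have hxm : P.P.HasMap (mk Q.X) := by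
    have h1 := hQ.map mk
    refine ⟨?_, ?_⟩
    · rw [← hf, ← hev (Q.Ring ⧸ K)]; exact h1.1
    · have h2 : IsUnit (aeval (mk Q.X) (g * derivative f)) := h1.2
      rw [map_mul] at h2
      rw [← hg, ← hev (Q.Ring ⧸ K)]
      exact isUnit_of_mul_isUnit_left h2
  let τ : E →ₐ[T] Q.Ring ⧸ K :=
    ((P.P.lift (mk Q.X) hxm).comp P.equivRing.toAlgHom).restrictScalars T
  have hτρ : τ.comp ρ = mk := by
    refine Q.hom_ext ?_
    show τ (Q.lift P.x hx Q.X) = mk Q.X
    rw [StandardEtalePair.lift_X]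
    show P.P.lift (mk Q.X) hxm (P.equivRing P.x) = mk Q.X
    rw [show P.equivRing P.x = P.P.X by
      apply P.equivRing.symm.injective
      rw [AlgEquiv.symm_apply_apply]; simp, StandardEtalePair.lift_X]
  refine ⟨Q.Ring, inferInstance, inferInstance, ρ, inferInstance, ?_, ?_⟩
  · -- the range is a subalgebra over the quotient containing a set of generators
    intro e
    let U : Subalgebra Tb E :=
      { (ρ.range.toSubsemiring) with
        algebraMap_mem' := fun b => by
          obtain ⟨t, rfl⟩ := hsurj b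
          exact ⟨algebraMap T Q.Ring t, by rw [← IsScalarTower.algebraMap_apply]; exact ρ.commutes t⟩ }
    have hxU : P.P.HasMap (⟨P.x, ⟨Q.X, StandardEtalePair.lift_X Q _ hx⟩⟩ : U) := by
      refine ⟨Subtype.ext ?_, ?_⟩
      · rw [← Subalgebra.coe_val, ← Polynomial.aeval_algHom_apply]
        exact P.hasMap.1
      · have hu : IsUnit (aeval (⟨P.x, ⟨Q.X, StandardEtalePair.lift_X Q _ hx⟩⟩ : U) (P.g * derivative P.f)) := by
          obtain ⟨w, hw⟩ := hQ.2
          refine IsUnit.of_mul_eq_one (⟨ρ ↑w⁻¹, _, rfl⟩ : U) (Subtype.ext ?_)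
          rw [Subalgebra.coe_mul, ← Subalgebra.coe_val, ← Polynomial.aeval_algHom_apply]
          show aeval P.x (P.g * derivative P.f) * ρ ↑w⁻¹ = 1
          rw [← hg, ← hf, derivative_map, ← Polynomial.map_mul, ← hev E,
            show P.x = ρ Q.X from (StandardEtalePair.lift_X Q _ hx).symm, Polynomial.aeval_algHom_apply,
            ← map_mul, show aeval Q.X (g * derivative f) = (w : Q.Ring) from hw.symm, Units.mul_inv, map_one]
        rw [map_mul] at hu
        exact isUnit_of_mul_isUnit_left hu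
    have h1 : U.val.comp ((P.P.lift _ hxU).comp P.equivRing.toAlgHom) = AlgHom.id Tb E := by
      have : (U.val.comp ((P.P.lift _ hxU).comp P.equivRing.toAlgHom)).comp P.equivRing.symm.toAlgHom =
          (AlgHom.id Tb E).comp P.equivRing.symm.toAlgHom := by
        refine P.P.hom_ext ?_
        simp [P.equivRing.apply_symm_apply]
      refine AlgHom.ext fun w => ?_
      have h2 := AlgHom.congr_fun this (P.equivRing w)
      simpa using h2
    have h2 := ((P.P.lift _ hxU).comp P.equivRing.toAlgHom e).2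
    rw [show (((P.P.lift _ hxU).comp P.equivRing.toAlgHom e : U) : E) = e from AlgHom.congr_fun h1 e] at h2
    exact h2
  · intro w hw
    refine Ideal.Quotient.eq_zero_iff_mem.1 ?_
    show mk w = 0
    rw [← hτρ, AlgHom.comp_apply, show ρ w = 0 from hw, map_zero]

/-- Inverting an element of the base which is invertible downstairs keeps a lift. -/
theorem exists_lift_away {T E E₀ : Type u} [CommRing T] [CommRing E] [CommRing E₀] [Algebra T E] [Algebra T E₀]
    [Algebra.Etale T E₀] (ρ : E₀ →ₐ[T] E) (hρ : Function.Surjective ρ) (J : Ideal T)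
    (hker : RingHom.ker ρ.toRingHom ≤ J.map (algebraMap T E₀)) (t : T) (ht : IsUnit (algebraMap T E t)) :
    ∃ (E' : Type u) (_ : CommRing E') (_ : Algebra T E') (ρ' : E' →ₐ[T] E),
      Algebra.Etale T E' ∧ Function.Surjective ρ' ∧
      RingHom.ker ρ'.toRingHom ≤ J.map (algebraMap T E') ∧ IsUnit (algebraMap T E' t) := by
  let E' := Localization.Away (algebraMap T E₀ t)
  have hu : ∀ w : Submonoid.powers (algebraMap T E₀ t), IsUnit (ρ w) := by
    rintro ⟨_, k, rfl⟩
    rw [map_pow, AlgHom.commutes]; exact ht.pow k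
  let ρ' : E' →ₐ[T] E := IsLocalization.liftAlgHom hu
  have hρ' : ∀ w, ρ' (algebraMap E₀ E' w) = ρ w := fun w => IsLocalization.lift_eq _ w
  haveI : Algebra.Etale E₀ E' := Algebra.Etale.of_isLocalizationAway (algebraMap T E₀ t)
  refine ⟨E', inferInstance, inferInstance, ρ', Algebra.Etale.comp T E₀ E', fun e => ?_, ?_, ?_⟩
  · obtain ⟨w, rfl⟩ := hρ e; exact ⟨_, hρ' w⟩
  · intro w hw
    obtain ⟨a, m, rfl⟩ := IsLocalization.exists_mk'_eq (Submonoid.powers (algebraMap T E₀ t)) w
    have h1 := congrArg ρ' (IsLocalization.mk'_spec E' a m)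
    rw [map_mul, show ρ' (IsLocalization.mk' E' a m) = 0 from hw, zero_mul, hρ'] at h1
    have h2 : algebraMap E₀ E' a ∈ J.map (algebraMap T E') := by
      rw [IsScalarTower.algebraMap_eq T E₀ E', ← Ideal.map_map]
      exact Ideal.mem_map_of_mem _ (hker h1.symm)
    rw [IsLocalization.mk'_eq_mul_mk'_one]
    exact Ideal.mul_mem_right _ _ h2
  · rw [IsScalarTower.algebraMap_apply T E₀ E']
    exact IsLocalization.Away.algebraMap_isUnit _

/-- Shrinking data finite over smooth so that a given element away from the point becomes invertible,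
keeping surjectivity over the base. -/
theorem exists_shrink_elements {R' D C : Type u} [CommRing R'] [CommRing D] [CommRing C] [Algebra R' D]
    [Algebra D C] [Module.Finite D C] [Algebra.Smooth R' D] (p' : Ideal R') [p'.IsPrime] (y : Ideal D)
    [y.IsPrime] [y.LiesOver p'] (z : Ideal C) [z.IsPrime]
    (huniq : ∀ (z₁ : Ideal C) [z₁.IsPrime], z₁.LiesOver y → z₁ = z) (c : C) (hc : c ∉ z) :
    ∃ (r : R') (d : D), r ∉ p' ∧ d ∉ y ∧ algebraMap R' D r ∣ d ∧ (∃ k, c ∣ algebraMap D C d ^ k) ∧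
      ∀ P : Ideal R', P.IsPrime → r ∉ P → ∃ Q : Ideal D, Q.IsPrime ∧ Q.comap (algebraMap R' D) = P ∧ d ∉ Q := by
  have hclosed : IsClosed (PrimeSpectrum.comap (algebraMap D C) '' PrimeSpectrum.zeroLocus {c}) :=
    PrimeSpectrum.isClosedMap_comap_of_isIntegral _ Algebra.IsIntegral.isIntegral _
      (PrimeSpectrum.isClosed_zeroLocus _)
  have hy : (⟨y, ‹_›⟩ : PrimeSpectrum D) ∈
      (PrimeSpectrum.comap (algebraMap D C) '' PrimeSpectrum.zeroLocus {c})ᶜ := by
    rintro ⟨z₁, hz₁, hz₁y⟩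
    refine hc ?_
    rw [← huniq z₁.asIdeal ⟨(congrArg PrimeSpectrum.asIdeal hz₁y).symm⟩]
    exact hz₁ (Set.mem_singleton c)
  obtain ⟨_, ⟨d₀, rfl⟩, hd₀, hsub⟩ :=
    PrimeSpectrum.isTopologicalBasis_basic_opens.exists_subset_of_mem_open hy hclosed.isOpen_compl
  have himg : IsOpen (PrimeSpectrum.comap (algebraMap R' D) '' (PrimeSpectrum.basicOpen d₀ : Set _)) :=
    PrimeSpectrum.isOpenMap_comap_of_hasGoingDown_of_finitePresentation _ (PrimeSpectrum.basicOpen d₀).isOpen
  have hp' : (⟨p', ‹_›⟩ : PrimeSpectrum R') ∈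
      PrimeSpectrum.comap (algebraMap R' D) '' (PrimeSpectrum.basicOpen d₀ : Set _) :=
    ⟨⟨y, ‹_›⟩, hd₀, PrimeSpectrum.ext (Ideal.LiesOver.over (P := y) (p := p')).symm⟩
  obtain ⟨_, ⟨r, rfl⟩, hr, hrsub⟩ :=
    PrimeSpectrum.isTopologicalBasis_basic_opens.exists_subset_of_mem_open hp' himg
  have hry : algebraMap R' D r ∉ y := fun h => hr
    ((Ideal.LiesOver.over (P := y) (p := p')).symm ▸ h)
  refine ⟨r, d₀ * algebraMap R' D r, hr, fun h => ((inferInstance : y.IsPrime).mem_or_mem h).elim hd₀ hry,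
    dvd_mul_left _ _, ?_, fun P hP hrP => ?_⟩
  · have h1 : algebraMap D C (d₀ * algebraMap R' D r) ∈ (Ideal.span {c}).radical := by
      rw [Ideal.radical_eq_sInf, Ideal.mem_sInf]
      rintro Q ⟨hQc, hQ⟩
      by_contra hn
      haveI := hQ
      have h2 : (⟨Q, hQ⟩ : PrimeSpectrum C).comap (algebraMap D C) ∈ (PrimeSpectrum.basicOpen d₀ : Set _) :=
        fun h => hn (by rw [map_mul]; exact Q.mul_mem_right _ h)
      exact hsub h2 ⟨⟨Q, hQ⟩, Set.singleton_subset_iff.2 (hQc (Ideal.mem_span_singleton_self c)), rfl⟩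
    obtain ⟨k, hk⟩ := h1
    exact ⟨k, Ideal.mem_span_singleton.1 hk⟩
  · obtain ⟨Q, hQd, hQP⟩ := hrsub (show (⟨P, hP⟩ : PrimeSpectrum R') ∈ (PrimeSpectrum.basicOpen r : Set _) from hrP)
    refine ⟨Q.asIdeal, Q.isPrime, congrArg PrimeSpectrum.asIdeal hQP, fun h => (Q.isPrime.mem_or_mem h).elim hQd ?_⟩
    intro h'
    exact hrP ((SetLike.ext_iff.1 (congrArg PrimeSpectrum.asIdeal hQP) r).1 h')

end Groth.Agent.GeomNbhd4
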