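import Groth.Agent.Lib.SectionCompFlat4
import Mathlib

/-!
# Connected pieces of smooth morphisms through a finite multisection

For a smooth morphism with a finite locally free multisection, the union of the components of the
fibres through the multisection is open and has geometrically connected fibres near a point where
the multisection is concentrated in a single geometrically connected component (EGA IV 15.6.5).
-/

set_option autoImplicit false

universe u

open CategoryTheory CategoryTheory.Limits AlgebraicGeometry Topology TopologicalSpace IsLocalRing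

set_option backward.isDefEq.respectTransparency.types false

namespace Groth.Agent.GeomNbhd4

open MoreMor (sectionComponents)

/-- Every point of a finite scheme over an algebraically closed field is rational. -/
theorem exists_rational_point {K : Type u} [Field K] [IsAlgClosed K] {Q : Scheme.{u}}
    (q : Q ⟶ Spec (CommRingCat.of K)) [IsFinite q] (p : Q) :
    ∃ a : Spec (CommRingCat.of K) ⟶ Q, a ≫ q = 𝟙 _ ∧ a (closedPoint K) = p := by
  haveI : IsLocallyArtinian Q := .of_locallyQuasiFinite q
  haveI : IsClosedImmersion (Q.fromSpecResidueField p) :=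
    .of_isPreimmersion _ (isClosed_discrete _)
  obtain ⟨φ, hφ⟩ := Spec.map_surjective (Q.fromSpecResidueField p ≫ q)
  have hfin : φ.hom.Finite := (IsFinite.SpecMap_iff φ).1 (hφ ▸ inferInstance)
  letI : Algebra K (Q.residueField p) := φ.hom.toAlgebra
  haveI : Module.Finite K (Q.residueField p) := hfin
  haveI : IsIso φ := (ConcreteCategory.isIso_iff_bijective φ).2
    (IsAlgClosed.algebraMap_bijective_of_isIntegral (k := K) (K := Q.residueField p))
  refine ⟨Spec.map (inv φ) ≫ Q.fromSpecResidueField p, ?_, ?_⟩
  · rw [Category.assoc, ← hφ, ← Spec.map_comp, IsIso.hom_inv_id, Spec.map_id]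
  · show Q.fromSpecResidueField p (Spec.map (inv φ) (closedPoint K)) = p
    exact Scheme.fromSpecResidueField_apply p _

/-- Base change of a lifted section. -/
theorem lift_comp_lift {Y S B L : Scheme.{u}} (h : Y ⟶ S) (b : B ⟶ S) (l : L ⟶ S) (w : L ⟶ B)
    (hw : w ≫ b = l) (σB : B ⟶ Y) (hσB : σB ≫ h = 𝟙 B ≫ b) (c : L ⟶ Y) (hc : c ≫ h = 𝟙 L ≫ l)
    (e : c = w ≫ σB) (hM : pullback.fst h l ≫ h = (pullback.snd h l ≫ w) ≫ b) :
    pullback.lift c (𝟙 L) hc ≫ pullback.lift (pullback.fst h l) (pullback.snd h l ≫ w) hM =
      w ≫ pullback.lift σB (𝟙 B) hσB := by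
  apply pullback.hom_ext
  · rw [Category.assoc, Category.assoc, pullback.lift_fst, pullback.lift_fst, pullback.lift_fst, e]
  · rw [Category.assoc, Category.assoc, pullback.lift_snd, pullback.lift_snd, pullback.lift_snd_assoc,
      Category.id_comp, Category.comp_id]

theorem lift_graph {X₁ X₂ Q : Scheme.{u}} {Y L : Scheme.{u}} (p₁ : X₁ ⟶ Y) (p₂ : X₂ ⟶ Y)
    (M : X₁ ⟶ X₂) (hM : 𝟙 X₁ ≫ p₁ = M ≫ p₂) (π : X₁ ⟶ L) (r : X₂ ⟶ Q) (a : L ⟶ Q) (hr : M ≫ r = π ≫ a)
    {R : Scheme.{u}} (l : L ⟶ R) (z : Q ⟶ R)
    (hρ : (pullback.fst p₁ p₂ ≫ π) ≫ l = (pullback.snd p₁ p₂ ≫ r) ≫ z)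
    (a₀ : L ⟶ pullback l z) (ha₀ : a₀ ≫ pullback.fst l z = 𝟙 L) (ha : a₀ ≫ pullback.snd l z = a) :
    pullback.lift (𝟙 X₁) M hM ≫ pullback.lift (pullback.fst p₁ p₂ ≫ π) (pullback.snd p₁ p₂ ≫ r) hρ =
      π ≫ a₀ := by
  apply pullback.hom_ext
  · rw [Category.assoc, Category.assoc, pullback.lift_fst, pullback.lift_fst_assoc, Category.id_comp,
      ha₀, Category.comp_id]
  · rw [Category.assoc, Category.assoc, pullback.lift_snd, pullback.lift_snd_assoc, hr, ha]

variable {Y S : Scheme.{u}} (h : Y ⟶ S) [Smooth h] {s : S} {y : Y}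

/-- Above the component of `y` in its fibre, residue base changes have a connected preimage. -/
theorem isPreconnected_preimage_component (hy : h y = s) (k : Type u) [Field k]
    (g : Spec (CommRingCat.of k) ⟶ Spec (S.residueField s)) [IsFinite g]
    (hgeo : _root_.IsPreconnected (pullback.fst h (g ≫ S.fromSpecResidueField s) ⁻¹' {y})) :
    _root_.IsPreconnected (pullback.fst h (g ≫ S.fromSpecResidueField s) ⁻¹'
      connectedComponentIn (h ⁻¹' {s}) y) := by
  let j := S.fromSpecResidueField s
  let m : pullback h (g ≫ j) ⟶ pullback h j :=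
    pullback.lift (pullback.fst _ _) (pullback.snd _ _ ≫ g) (by rw [Category.assoc, pullback.condition])
  have hm : IsPullback m (pullback.snd h (g ≫ j)) (pullback.snd h j) g :=
    IsPullback.of_right (h₁₂ := pullback.fst h j) (h₂₂ := j)
      (by rw [pullback.lift_fst]; exact IsPullback.of_hasPullback _ _)
      (pullback.lift_snd _ _ _) (IsPullback.of_hasPullback _ _)
  haveI : Flat g := by
    obtain ⟨φ, rfl⟩ := Spec.map_surjective g
    refine (HasRingHomProperty.Spec_iff (P := @Flat)).2 ?_
    letI : Algebra (S.residueField s) k := φ.hom.toAlgebra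
    exact RingHom.flat_algebraMap_iff.2 (inferInstance : Module.Flat (S.residueField s) k)
  haveI : IsLocallyNoetherian (Spec (S.residueField s)) := inferInstance
  haveI : LocallyOfFinitePresentation g := inferInstance
  haveI : IsFinite m := MorphismProperty.of_isPullback (P := @IsFinite) hm.flip inferInstance
  haveI : Flat m := MorphismProperty.of_isPullback (P := @Flat) hm.flip inferInstance
  haveI : LocallyOfFinitePresentation m :=
    MorphismProperty.of_isPullback (P := @LocallyOfFinitePresentation) hm.flip inferInstance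
  let ι := pullback.fst h j
  have hι : IsEmbedding ι := (pullback.fst h j).isEmbedding
  have hr : Set.range ι = h ⁻¹' {s} := by
    show Set.range (pullback.fst h j) = _
    rw [Scheme.Pullback.range_fst, Scheme.range_fromSpecResidueField]
  obtain ⟨y₀, hy₀⟩ : y ∈ Set.range ι := hr ▸ hy
  let T : Set ↥(pullback h j) := ι ⁻¹' connectedComponentIn (h ⁻¹' {s}) y
  have hT : T = connectedComponent y₀ := by
    refine Set.Subset.antisymm ?_ ?_
    · refine IsPreconnected.subset_connectedComponent ?_ ?_
      · rw [← hι.isInducing.isPreconnected_image,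
          Set.image_preimage_eq_of_subset (by rw [hr]; exact connectedComponentIn_subset _ _)]
        exact isPreconnected_connectedComponentIn
      · show ι y₀ ∈ connectedComponentIn (h ⁻¹' {s}) y
        rw [hy₀]; exact mem_connectedComponentIn hy
    · have h1 := (isPreconnected_connectedComponent (x := y₀)).image ι ι.continuous.continuousOn
      exact Set.image_subset_iff.1 (h1.subset_connectedComponentIn ⟨y₀, mem_connectedComponent, hy₀⟩
        (hr ▸ Set.image_subset_range _ _))
  haveI : IsLocallyNoetherian (pullback h j) :=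
    LocallyOfFiniteType.isLocallyNoetherian (pullback.snd h j)
  haveI := SectionCompOpen4.locallyConnectedSpace (pullback h j)
  haveI : IsLocallyNoetherian (pullback h (g ≫ j)) := LocallyOfFiniteType.isLocallyNoetherian m
  haveI := SectionCompOpen4.locallyConnectedSpace (pullback h (g ≫ j))
  have hTclopen : IsClopen T := hT ▸ ⟨isClosed_connectedComponent, isOpen_connectedComponent⟩
  have hmi : ∀ x, pullback.fst h (g ≫ j) x = ι (m x) := fun x => by
    rw [← Scheme.Hom.comp_apply, pullback.lift_fst]
  have hpre : pullback.fst h (g ≫ j) ⁻¹' connectedComponentIn (h ⁻¹' {s}) y = m ⁻¹' T := by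
    ext x
    exact iff_of_eq (congrArg (· ∈ connectedComponentIn (h ⁻¹' {s}) y) (hmi x))
  rw [hpre]
  set F := pullback.fst h (g ≫ j) ⁻¹' {y} with hF
  have hsub : F ⊆ m ⁻¹' T := fun x hx => by
    rw [← hpre]
    rw [Set.mem_preimage]
    convert mem_connectedComponentIn (show y ∈ h ⁻¹' {s} from hy) using 1
    exact hx
  -- every component of the preimage meets the preimage of `y`
  refine isPreconnected_of_forall_pair fun a ha b hb => ?_
  have hmeet : ∀ a ∈ m ⁻¹' T, ∃ c ∈ F, c ∈ connectedComponent a := by
    intro a ha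
    have himg : IsClopen (m '' connectedComponent a) :=
      ⟨m.isClosedMap _ isClosed_connectedComponent, m.isOpenMap _ isOpen_connectedComponent⟩
    have h2 : connectedComponent (m a) ⊆ m '' connectedComponent a :=
      himg.connectedComponent_subset ⟨a, mem_connectedComponent, rfl⟩
    have h3 : y₀ ∈ connectedComponent (m a) := by
      rw [← connectedComponent_eq (show m a ∈ connectedComponent y₀ from hT ▸ ha)]
      exact mem_connectedComponent
    obtain ⟨c, hc, hce⟩ := h2 h3
    exact ⟨c, show pullback.fst h (g ≫ j) c = y by rw [hmi, hce, hy₀], hc⟩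
  have hcomp : ∀ a ∈ m ⁻¹' T, connectedComponent a ⊆ m ⁻¹' T := fun a ha =>
    (hTclopen.preimage m.continuous).connectedComponent_subset ha
  obtain ⟨c, hc, hca⟩ := hmeet a ha
  obtain ⟨d, hd, hdb⟩ := hmeet b hb
  refine ⟨connectedComponent a ∪ F ∪ connectedComponent b,
    Set.union_subset (Set.union_subset (hcomp a ha) hsub) (hcomp b hb),
    Or.inl (Or.inl mem_connectedComponent), Or.inr mem_connectedComponent, ?_⟩
  exact (isPreconnected_connectedComponent.union c hca hc hgeo).union d (Or.inr hd) hdb
    isPreconnected_connectedComponent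

variable {B : Scheme.{u}} (b : B ⟶ S) [IsFinite b]

/-- Over a point of a finite base change lying over `s`, points above the component of `y` lie in one
component of the fibre. -/
theorem mem_component_of_mem (hy : h y = s)
    (hgeo : ∀ (K : Type u) [Field K] (k : Spec (CommRingCat.of K) ⟶ S), k (closedPoint K) = s →
      _root_.IsPreconnected (pullback.fst h k ⁻¹' {y}))
    {x x' : ↥(pullback h b)} (hxb : b (pullback.snd h b x) = s)
    (hx' : pullback.snd h b x' = pullback.snd h b x)
    (hxT : pullback.fst h b x ∈ connectedComponentIn (h ⁻¹' {s}) y)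
    (hxT' : pullback.fst h b x' ∈ connectedComponentIn (h ⁻¹' {s}) y) :
    x' ∈ connectedComponentIn (pullback.snd h b ⁻¹' {pullback.snd h b x}) x := by
  set w := pullback.snd h b x with hw
  let j := S.fromSpecResidueField s
  obtain ⟨w₀, hw₀⟩ : w ∈ Set.range (pullback.fst b j) := by
    rw [Scheme.Pullback.range_fst, Scheme.range_fromSpecResidueField]; exact hxb
  haveI : IsLocallyArtinian (pullback b j) := .of_locallyQuasiFinite (pullback.snd b j)
  haveI : IsClosedImmersion ((pullback b j).fromSpecResidueField w₀) :=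
    .of_isPreimmersion _ (isClosed_discrete _)
  let c := (pullback b j).fromSpecResidueField w₀
  let g := c ≫ pullback.snd b j
  haveI : IsFinite g := inferInstance
  let W := c ≫ pullback.fst b j
  have hW : ∀ q, W q = w := fun q => by
    show pullback.fst b j (c q) = w
    rw [Scheme.fromSpecResidueField_apply, hw₀]
  have hWb : W ≫ b = g ≫ j := by simp only [W, g, Category.assoc, pullback.condition]
  have hk : (g ≫ j) (closedPoint ((pullback b j).residueField w₀)) = s := by
    rw [← hWb, Scheme.Hom.comp_apply, hW]; exact hxb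
  have hpc := isPreconnected_preimage_component h hy ((pullback b j).residueField w₀) g
    (hgeo _ (g ≫ j) hk)
  let M : pullback h (g ≫ j) ⟶ pullback h b :=
    pullback.lift (pullback.fst _ _) (pullback.snd _ _ ≫ W)
      (by rw [Category.assoc]; exact pullback.condition.trans (congrArg (pullback.snd h (g ≫ j) ≫ ·) hWb.symm))
  have hM : IsPullback M (pullback.snd h (g ≫ j)) (pullback.snd h b) W :=
    IsPullback.of_right (h₁₂ := pullback.fst h b) (h₂₂ := b)
      (by rw [pullback.lift_fst, hWb]; exact IsPullback.of_hasPullback _ _)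
      (pullback.lift_snd _ _ _) (IsPullback.of_hasPullback _ _)
  have hlift : ∀ z, pullback.snd h b z = w → ∃ z₀, M z₀ = z := fun z hz => by
    have : z ∈ Set.range (hM.isoPullback.hom ≫ pullback.fst (pullback.snd h b) W) := by
      rw [Scheme.Hom.comp_base, TopCat.coe_comp, Set.range_comp,
        hM.isoPullback.hom.surjective.range_eq, Set.image_univ, Scheme.Pullback.range_fst]
      exact ⟨closedPoint _, (hW _).trans hz.symm⟩
    rwa [hM.isoPullback_hom_fst] at this
  obtain ⟨a, ha⟩ := hlift x hw.symm
  obtain ⟨a', ha'⟩ := hlift x' hx'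
  have hMfst : ∀ z, pullback.fst h b (M z) = pullback.fst h (g ≫ j) z := fun z => by
    rw [← Scheme.Hom.comp_apply, pullback.lift_fst]
  refine (hpc.image M M.continuous.continuousOn).subset_connectedComponentIn ⟨a, ?_, ha⟩ ?_ ⟨a', ?_, ha'⟩
  · rw [Set.mem_preimage]
    convert hxT using 1
    rw [← ha]; exact (hMfst a).symm
  · rintro _ ⟨z, -, rfl⟩
    show pullback.snd h b (M z) = w
    rw [← Scheme.Hom.comp_apply, pullback.lift_snd, Scheme.Hom.comp_apply, hW]
  · rw [Set.mem_preimage]
    convert hxT' using 1
    rw [← ha']; exact (hMfst a').symm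

/-- A smooth morphism with a finite locally free multisection has, near a point where the
multisection lies in one geometrically connected component, an open subscheme with geometrically
connected fibres containing that component. -/
theorem exists_connected_nhd [QuasiSeparatedSpace Y] [QuasiSeparatedSpace S] {Z : Scheme.{u}}
    (z : Z ⟶ S) [IsFinite z] [Flat z] [LocallyOfFinitePresentation z] (σ : Z ⟶ Y) (hσ : σ ≫ h = z)
    (z₀ : Z) (hz₀ : z z₀ = s) (huniq : ∀ w, z w = s → w = z₀) (hy : h y = s)
    (hσy : σ z₀ ∈ connectedComponentIn (h ⁻¹' {s}) y)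
    (hgeo : ∀ (K : Type u) [Field K] (k : Spec (CommRingCat.of K) ⟶ S), k (closedPoint K) = s →
      _root_.IsPreconnected (pullback.fst h k ⁻¹' {y})) :
    ∃ (U : Y.Opens) (W : S.Opens), s ∈ W ∧ y ∈ U ∧
      ∀ (K : Type u) [Field K] (k : Spec (CommRingCat.of K) ⟶ S), k (closedPoint K) ∈ W →
        _root_.IsPreconnected (pullback.fst h k ⁻¹' (U : Set Y)) := by
  let YZ := pullback h z
  let t : Z ⟶ YZ := pullback.lift σ (𝟙 Z) (by rw [hσ, Category.id_comp])
  haveI : Smooth (pullback.snd h z) := MorphismProperty.pullback_snd _ _ inferInstance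
  haveI : IsAffineHom (pullback.fst h z) := inferInstance
  haveI : QuasiSeparatedSpace ↥(pullback h z) :=
    quasiSeparatedSpace_of_quasiSeparated (pullback.fst h z)
  have ht : t ≫ pullback.snd h z = 𝟙 Z := pullback.lift_snd _ _ _
  let E := sectionComponents (pullback.snd h z) t
  have hE : IsOpen E := SectionCompFlat4.isOpen_of_smooth (pullback.snd h z) ht
  let U : Y.Opens := ⟨pullback.fst h z '' E, (pullback.fst h z).isOpenMap _ hE⟩
  have htfst : ∀ w, pullback.fst h z (t w) = σ w := fun w => by
    rw [← Scheme.Hom.comp_apply, pullback.lift_fst]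
  have htsnd : ∀ w, pullback.snd h z (t w) = w := fun w => by
    rw [← Scheme.Hom.comp_apply, ht]; rfl
  -- the locus where the two tautological sections share a component
  let Z2 := pullback z z
  let z2 : Z2 ⟶ S := pullback.fst z z ≫ z
  haveI : IsFinite z2 := inferInstance
  let t₁ : Z2 ⟶ pullback h z2 := pullback.lift (pullback.fst z z ≫ σ) (𝟙 _)
    (by rw [Category.assoc, hσ, Category.id_comp])
  let t₂ : Z2 ⟶ pullback h z2 := pullback.lift (pullback.snd z z ≫ σ) (𝟙 _)
    (by rw [Category.assoc, hσ, Category.id_comp]; exact pullback.condition.symm)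
  haveI : Smooth (pullback.snd h z2) := MorphismProperty.pullback_snd _ _ inferInstance
  haveI : IsAffineHom (pullback.fst h z2) := inferInstance
  haveI : QuasiSeparatedSpace ↥(pullback h z2) :=
    quasiSeparatedSpace_of_quasiSeparated (pullback.fst h z2)
  have ht₁ : t₁ ≫ pullback.snd h z2 = 𝟙 _ := pullback.lift_snd _ _ _
  have ht₂ : t₂ ≫ pullback.snd h z2 = 𝟙 _ := pullback.lift_snd _ _ _
  let G : Set Z2 := t₂ ⁻¹' sectionComponents (pullback.snd h z2) t₁
  have hG : IsOpen G := (SectionCompFlat4.isOpen_of_smooth (pullback.snd h z2) ht₁).preimage t₂.continuous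
  have hGs : ∀ w, z2 w = s → w ∈ G := by
    intro w hw
    have h1 : pullback.fst z z w = z₀ := huniq _ hw
    have h2 : pullback.snd z z w = z₀ := huniq _ (by
      rw [← Scheme.Hom.comp_apply, ← pullback.condition]; exact hw)
    have e1 : pullback.snd h z2 (t₁ w) = w := by rw [← Scheme.Hom.comp_apply, ht₁]; rfl
    have e2 : pullback.snd h z2 (t₂ w) = w := by rw [← Scheme.Hom.comp_apply, ht₂]; rfl
    show t₂ w ∈ connectedComponentIn (pullback.snd h z2 ⁻¹' {pullback.snd h z2 (t₂ w)})
      (t₁ (pullback.snd h z2 (t₂ w)))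
    rw [e2]
    rw [show ({w} : Set Z2) = {pullback.snd h z2 (t₁ w)} by rw [e1]]
    refine mem_component_of_mem h z2 hy hgeo (x := t₁ w) (x' := t₂ w) (by rw [e1]; exact hw)
      (e2.trans e1.symm) ?_ ?_
    · rw [← Scheme.Hom.comp_apply, pullback.lift_fst, Scheme.Hom.comp_apply, h1]; exact hσy
    · rw [← Scheme.Hom.comp_apply, pullback.lift_fst, Scheme.Hom.comp_apply, h2]; exact hσy
  let W : S.Opens := ⟨(z2 '' Gᶜ)ᶜ, (z2.isClosedMap _ hG.isClosed_compl).isOpen_compl⟩
  refine ⟨U, W, ?_, ?_, ?_⟩
  · rintro ⟨w, hw, hws⟩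
    exact hw (hGs w hws)
  · obtain ⟨x, hxy, hxz⟩ := Scheme.Pullback.exists_preimage_pullback (f := h) (g := z) y z₀ (by rw [hy, hz₀])
    refine ⟨x, ?_, hxy⟩
    show x ∈ connectedComponentIn (pullback.snd h z ⁻¹' {pullback.snd h z x}) (t (pullback.snd h z x))
    rw [hxz]
    rw [show ({z₀} : Set Z) = {pullback.snd h z (t z₀)} by rw [htsnd]]
    exact mem_component_of_mem h z hy hgeo (x := t z₀) (x' := x) (by rw [htsnd, hz₀])
      (by rw [hxz, htsnd]) (by rw [htfst]; exact hσy) (by rw [hxy]; exact mem_connectedComponentIn hy)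
  intro K _ k hk
  -- reduce to an algebraically closed field
  suffices key : ∀ (L : Type u) [Field L] [IsAlgClosed L] (l : Spec (CommRingCat.of L) ⟶ S),
      l (closedPoint L) ∈ W → _root_.IsPreconnected (pullback.fst h l ⁻¹' (U : Set Y)) by
    let Ω := AlgebraicClosure K
    let e : Spec (CommRingCat.of Ω) ⟶ Spec (CommRingCat.of K) :=
      Spec.map (CommRingCat.ofHom (algebraMap K Ω))
    let m : pullback h (e ≫ k) ⟶ pullback h k :=
      pullback.lift (pullback.fst _ _) (pullback.snd _ _ ≫ e) (by rw [Category.assoc, pullback.condition])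
    haveI : Surjective e := ⟨fun p => ⟨closedPoint Ω, Subsingleton.elim _ _⟩⟩
    have hm : IsPullback m (pullback.snd h (e ≫ k)) (pullback.snd h k) e :=
      IsPullback.of_right (h₁₂ := pullback.fst h k) (h₂₂ := k)
        (by rw [pullback.lift_fst]; exact IsPullback.of_hasPullback _ _)
        (pullback.lift_snd _ _ _) (IsPullback.of_hasPullback _ _)
    haveI : Surjective m := MorphismProperty.of_isPullback (P := @Surjective) hm.flip inferInstance
    have h1 := key Ω (e ≫ k) (by
      rw [Scheme.Hom.comp_apply, Subsingleton.elim (e (closedPoint Ω)) (closedPoint K)]; exact hk)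
    have h2 : pullback.fst h (e ≫ k) ⁻¹' (U : Set Y) = m ⁻¹' (pullback.fst h k ⁻¹' (U : Set Y)) := by
      rw [← Set.preimage_comp, ← TopCat.coe_comp, ← Scheme.Hom.comp_base, pullback.lift_fst]
    rw [h2] at h1
    have h3 := h1.image m m.continuous.continuousOn
    rwa [Set.image_preimage_eq _ m.surjective] at h3
  intro L _ _ l hl
  -- the sections over `L`
  let sec : ∀ a : Spec (CommRingCat.of L) ⟶ Z, a ≫ z = l → (Spec (CommRingCat.of L) ⟶ pullback h l) :=
    fun a ha => pullback.lift (a ≫ σ) (𝟙 _) (by rw [Category.assoc, hσ, ha, Category.id_comp])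
  have hsec : ∀ a ha, sec a ha ≫ pullback.snd h l = 𝟙 _ := fun a ha => pullback.lift_snd _ _ _
  -- components along any two sections agree
  have hpair : ∀ a ha a' ha', sec a' ha' (closedPoint L) ∈
      sectionComponents (pullback.snd h l) (sec a ha) := by
    intro a ha a' ha'
    let w : Spec (CommRingCat.of L) ⟶ Z2 := pullback.lift a a' (ha.trans ha'.symm)
    have hw : w ≫ z2 = l := by rw [pullback.lift_fst_assoc, ha]
    let M : pullback h l ⟶ pullback h z2 :=
      pullback.lift (pullback.fst _ _) (pullback.snd _ _ ≫ w) (by rw [Category.assoc, hw, pullback.condition])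
    have hM : IsPullback M (pullback.snd h l) (pullback.snd h z2) w :=
      IsPullback.of_right (h₁₂ := pullback.fst h z2) (h₂₂ := z2)
        (by rw [pullback.lift_fst, hw]; exact IsPullback.of_hasPullback _ _)
        (pullback.lift_snd _ _ _) (IsPullback.of_hasPullback _ _)
    have e1 : sec a ha ≫ M = w ≫ t₁ :=
      lift_comp_lift h z2 l w hw (pullback.fst z z ≫ σ) _ _ _ (pullback.lift_fst_assoc _ _ _ _).symm _
    have e2 : sec a' ha' ≫ M = w ≫ t₂ :=
      lift_comp_lift h z2 l w hw (pullback.snd z z ≫ σ) _ _ _ (pullback.lift_snd_assoc _ _ _ _).symm _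
    rw [SectionCompConn4.sectionComponents_baseChange ht₁ hM (hsec a ha) e1]
    rw [Set.mem_preimage, ← Scheme.Hom.comp_apply, e2, Scheme.Hom.comp_apply]
    have hnot : w (closedPoint L) ∈ G := by
      by_contra hne
      refine hl ⟨w (closedPoint L), hne, ?_⟩
      rw [← Scheme.Hom.comp_apply, hw]
    exact hnot
  -- every point over `U` is in the component along some section
  have hcov : ∀ x ∈ pullback.fst h l ⁻¹' (U : Set Y), ∃ a ha,
      x ∈ sectionComponents (pullback.snd h l) (sec a ha) := by
    rintro x ⟨e, he, hex⟩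
    obtain ⟨P, hPx, hPe⟩ := Scheme.Pullback.exists_preimage_pullback (f := pullback.fst h l)
      (g := pullback.fst h z) x e hex.symm
    let A := pullback (pullback.fst h l) (pullback.fst h z)
    let ρ : A ⟶ pullback l z :=
      pullback.lift (pullback.fst _ _ ≫ pullback.snd h l) (pullback.snd _ _ ≫ pullback.snd h z) (by
        rw [Category.assoc, Category.assoc, ← pullback.condition, ← pullback.condition,
          pullback.condition_assoc])
    obtain ⟨a₀, ha₀, ha₀p⟩ := exists_rational_point (pullback.fst l z) (ρ P)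
    let a := a₀ ≫ pullback.snd l z
    have ha : a ≫ z = l := by
      rw [Category.assoc, ← pullback.condition, ← Category.assoc, ha₀, Category.id_comp]
    refine ⟨a, ha, ?_⟩
    let M : pullback h l ⟶ pullback h z :=
      pullback.lift (pullback.fst _ _) (pullback.snd _ _ ≫ a) (by rw [Category.assoc, ha, pullback.condition])
    have hM : IsPullback M (pullback.snd h l) (pullback.snd h z) a :=
      IsPullback.of_right (h₁₂ := pullback.fst h z) (h₂₂ := z)
        (by rw [pullback.lift_fst, ha]; exact IsPullback.of_hasPullback _ _)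
        (pullback.lift_snd _ _ _) (IsPullback.of_hasPullback _ _)
    -- `P` comes from `x` along the graph of the rational point
    let Γ : pullback h l ⟶ A := pullback.lift (𝟙 _) M (by rw [pullback.lift_fst, Category.id_comp])
    have hΓρ : Γ ≫ ρ = pullback.snd h l ≫ a₀ :=
      lift_graph _ _ M _ (pullback.snd h l) (pullback.snd h z) a (pullback.lift_snd _ _ _) l z _ a₀ ha₀ rfl
    have hA : IsPullback (pullback.fst (pullback.fst h l) (pullback.fst h z)) ρ (pullback.snd h l)
        (pullback.fst l z) := by
      refine IsPullback.of_bot (v₂₁ := pullback.snd l z) (v₂₂ := l) ?_ (pullback.lift_fst _ _ _).symm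
        (IsPullback.of_hasPullback l z)
      rw [pullback.lift_snd, ← pullback.condition]
      exact (IsPullback.of_hasPullback (pullback.fst h l) (pullback.fst h z)).paste_vert
        (IsPullback.of_hasPullback h z)
    have hΓsq : IsPullback Γ (pullback.snd h l) ρ a₀ :=
      IsPullback.of_right (h₁₂ := pullback.fst (pullback.fst h l) (pullback.fst h z))
        (h₂₂ := pullback.fst l z)
        (by rw [pullback.lift_fst, ha₀]; exact IsPullback.of_horiz_isIso ⟨by simp⟩)
        hΓρ hA
    have hPx' : Γ x = P := by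
      obtain ⟨x₁, hx₁⟩ : P ∈ Set.range (hΓsq.isoPullback.hom ≫ pullback.fst ρ a₀) := by
        rw [Scheme.Hom.comp_base, TopCat.coe_comp, Set.range_comp,
          hΓsq.isoPullback.hom.surjective.range_eq, Set.image_univ, Scheme.Pullback.range_fst]
        exact ⟨closedPoint L, ha₀p⟩
      rw [hΓsq.isoPullback_hom_fst] at hx₁
      have : x₁ = x := by
        rw [← hPx, ← hx₁, ← Scheme.Hom.comp_apply, pullback.lift_fst]; rfl
      rw [← this, hx₁]
    have e1 : sec a ha ≫ M = a ≫ t := lift_comp_lift h z l a ha σ _ _ _ rfl _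
    rw [SectionCompConn4.sectionComponents_baseChange ht hM (hsec a ha) e1]
    show M x ∈ E
    have : M x = e := by
      rw [← hPe, ← hPx', ← Scheme.Hom.comp_apply, pullback.lift_snd]
    rw [this]; exact he
  have hsub : ∀ a ha, connectedComponentIn (pullback.snd h l ⁻¹' {closedPoint L})
      (sec a ha (closedPoint L)) ⊆ pullback.fst h l ⁻¹' (U : Set Y) := by
    intro a ha x hx
    let M : pullback h l ⟶ pullback h z :=
      pullback.lift (pullback.fst _ _) (pullback.snd _ _ ≫ a) (by rw [Category.assoc, ha, pullback.condition])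
    have hM : IsPullback M (pullback.snd h l) (pullback.snd h z) a :=
      IsPullback.of_right (h₁₂ := pullback.fst h z) (h₂₂ := z)
        (by rw [pullback.lift_fst, ha]; exact IsPullback.of_hasPullback _ _)
        (pullback.lift_snd _ _ _) (IsPullback.of_hasPullback _ _)
    have e1 : sec a ha ≫ M = a ≫ t := lift_comp_lift h z l a ha σ _ _ _ rfl _
    refine ⟨M x, ?_, by rw [← Scheme.Hom.comp_apply, pullback.lift_fst]⟩
    show x ∈ M ⁻¹' E
    rw [← SectionCompConn4.sectionComponents_baseChange ht hM (hsec a ha) e1]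
    show x ∈ connectedComponentIn (pullback.snd h l ⁻¹' {pullback.snd h l x}) (sec a ha (pullback.snd h l x))
    rwa [Subsingleton.elim (pullback.snd h l x) (closedPoint L)]
  refine isPreconnected_of_forall_pair fun x hx x' hx' => ?_
  obtain ⟨a, ha, hxa⟩ := hcov x hx
  obtain ⟨a', ha', hxa'⟩ := hcov x' hx'
  refine ⟨connectedComponentIn (pullback.snd h l ⁻¹' {closedPoint L}) (sec a ha (closedPoint L)),
    hsub a ha, ?_, ?_, isPreconnected_connectedComponentIn⟩
  · have h1 := hxa
    change x ∈ connectedComponentIn (pullback.snd h l ⁻¹' {pullback.snd h l x}) (sec a ha (pullback.snd h l x)) at h1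
    rwa [Subsingleton.elim (pullback.snd h l x) (closedPoint L)] at h1
  · have h1 := hxa'
    change x' ∈ connectedComponentIn (pullback.snd h l ⁻¹' {pullback.snd h l x'}) (sec a' ha' (pullback.snd h l x')) at h1
    rw [Subsingleton.elim (pullback.snd h l x') (closedPoint L)] at h1
    have h2 := hpair a ha a' ha'
    change sec a' ha' (closedPoint L) ∈ connectedComponentIn (pullback.snd h l ⁻¹' {_}) (sec a ha _) at h2
    rw [Subsingleton.elim (pullback.snd h l (sec a' ha' (closedPoint L))) (closedPoint L)] at h2
    exact (connectedComponentIn_eq h2).symm ▸ h1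

end Groth.Agent.GeomNbhd4
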