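import Groth.Agent.Lib.GeomNbhd4.Devissage

/-!
# Existence of elementary dévissages
-/

set_option autoImplicit false

universe u

open TensorProduct

set_option backward.isDefEq.respectTransparency.types false

namespace Groth.Agent.GeomNbhd4

variable {R S : Type u} [CommRing R] [CommRing S] [Algebra R S]

/-- The standard étale lift of a piece of an étale algebra over the fibre product. -/
theorem exists_piece (I : Ideal S) (R' C : Type u) [CommRing R'] [CommRing C] [Algebra R R'] [Algebra.Etale R R']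
    [Algebra R C] [Algebra R' C] [IsScalarTower R R' C] [Algebra (S ⧸ I) C] [IsScalarTower R (S ⧸ I) C]
    [Algebra.Etale (S ⧸ I) C] (z : Ideal C) [z.IsPrime] :
    ∃ c ∉ z, ∀ (d : C) (r : R') (k : ℕ), c ∣ d ^ k → algebraMap R' C r ∣ d →
      ∃ (S' : Type u) (_ : CommRing S') (φS : S →+* S') (φR : R' →+* S') (ρ : S' →+* Localization.Away d),
        φS.Etale ∧ φS.comp (algebraMap R S) = φR.comp (algebraMap R R') ∧ Function.Surjective ρ ∧
        RingHom.ker ρ ≤ I.map φS ∧
        ρ.comp φS = ((algebraMap C (Localization.Away d)).comp (algebraMap (S ⧸ I) C)).comp (Ideal.Quotient.mk I) ∧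
        ρ.comp φR = (algebraMap C (Localization.Away d)).comp (algebraMap R' C) ∧ IsUnit (φR r) := by
  let T := S ⊗[R] R'
  let Tb := (S ⧸ I) ⊗[R] R'
  let π : T →ₐ[R] Tb := Algebra.TensorProduct.map (Ideal.Quotient.mkₐ R I) (AlgHom.id R R')
  have hπ : Function.Surjective π :=
    Algebra.TensorProduct.map_surjective _ _ (Ideal.Quotient.mkₐ_surjective R I) Function.surjective_id
  have hkπ : RingHom.ker π.toRingHom = I.map (algebraMap S T) := by
    refine (Algebra.TensorProduct.rTensor_ker _ (Ideal.Quotient.mkₐ_surjective R I)).trans ?_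
    rw [show RingHom.ker (Ideal.Quotient.mkₐ R I) = I from Ideal.Quotient.mkₐ_ker R I]
    rfl
  let χ : Tb →ₐ[R] C := Algebra.TensorProduct.lift (IsScalarTower.toAlgHom R (S ⧸ I) C)
    (IsScalarTower.toAlgHom R R' C) fun _ _ => .all _ _
  letI : Algebra Tb C := χ.toRingHom.toAlgebra
  haveI : IsScalarTower (S ⧸ I) Tb C := IsScalarTower.of_algebraMap_eq fun b => by
    show algebraMap (S ⧸ I) C b = χ (b ⊗ₜ[R] 1)
    refine ((Algebra.TensorProduct.lift_tmul _ _ _ b 1).trans ?_).symm
    rw [map_one, mul_one]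
    rfl
  haveI : Algebra.FormallyEtale Tb C := Algebra.FormallyEtale.of_restrictScalars (R := S ⧸ I)
  haveI : Algebra.FinitePresentation Tb C :=
    Algebra.FinitePresentation.of_restrict_scalars_finitePresentation (S ⧸ I) Tb C
  haveI : Algebra.Etale Tb C := {}
  obtain ⟨c, hc, hcst⟩ := Algebra.IsEtaleAt.exists_isStandardEtale (R := Tb) z
  refine ⟨c, hc, fun d r k hk hrd => ?_⟩
  haveI := hcst
  let E := Localization.Away d
  haveI : Algebra.IsStandardEtale Tb E := isStandardEtale_away_of_dvd c d k hk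
  letI : Algebra T Tb := π.toRingHom.toAlgebra
  letI : Algebra T E := ((algebraMap Tb E).comp π.toRingHom).toAlgebra
  haveI : IsScalarTower T Tb E := IsScalarTower.of_algebraMap_eq fun _ => rfl
  obtain ⟨E₀, _, _, ρ₀, hE₀, hρ₀, hk₀⟩ := exists_standardEtale_lift (T := T) (Tb := Tb) (E := E) hπ
  haveI := hE₀
  let t : T := Algebra.TensorProduct.includeRight r
  have hTR : ∀ w : R', algebraMap T E (Algebra.TensorProduct.includeRight w) =
      algebraMap C E (algebraMap R' C w) := fun w => by
    show algebraMap Tb E (π ((1 : S) ⊗ₜ[R] w)) = _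
    rw [IsScalarTower.algebraMap_apply Tb C E]
    refine congrArg (algebraMap C E) ?_
    show χ (π ((1 : S) ⊗ₜ[R] w)) = _
    rw [show π ((1 : S) ⊗ₜ[R] w) = (1 : S ⧸ I) ⊗ₜ[R] w from rfl]
    refine (Algebra.TensorProduct.lift_tmul _ _ _ _ _).trans ?_
    rw [map_one, one_mul]
    rfl
  have ht : IsUnit (algebraMap T E t) := by
    rw [hTR]
    exact isUnit_of_dvd_unit (map_dvd _ hrd) (IsLocalization.Away.algebraMap_isUnit d)
  obtain ⟨S', _, _, ρ, hS', hρ, hk', hu⟩ := exists_lift_away ρ₀ hρ₀ _ hk₀ t ht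
  letI : Algebra S S' := ((algebraMap T S').comp (algebraMap S T)).toAlgebra
  haveI : IsScalarTower S T S' := IsScalarTower.of_algebraMap_eq fun _ => rfl
  haveI : Algebra.Etale S S' := Algebra.Etale.comp S T S'
  refine ⟨S', inferInstance, algebraMap S S',
    (algebraMap T S').comp (Algebra.TensorProduct.includeRight : R' →ₐ[R] T).toRingHom, ρ.toRingHom,
    RingHom.etale_algebraMap.2 inferInstance, ?_, hρ, ?_, ?_, ?_, hu⟩
  · refine RingHom.ext fun a => ?_
    show algebraMap T S' (algebraMap S T (algebraMap R S a)) =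
      algebraMap T S' (Algebra.TensorProduct.includeRight (algebraMap R R' a))
    rw [AlgHom.commutes, ← IsScalarTower.algebraMap_apply R S T]
  · refine hk'.trans ?_
    rw [show RingHom.ker (algebraMap T Tb) = I.map (algebraMap S T) from hkπ, Ideal.map_map]
    exact le_rfl
  · refine RingHom.ext fun a => ?_
    show ρ (algebraMap T S' (algebraMap S T a)) = _
    rw [ρ.commutes]
    show algebraMap Tb E (π (a ⊗ₜ[R] 1)) = _
    rw [IsScalarTower.algebraMap_apply Tb C E]
    refine congrArg (algebraMap C E) ?_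
    show χ (π (a ⊗ₜ[R] 1)) = _
    rw [show π (a ⊗ₜ[R] 1) = (Ideal.Quotient.mk I a) ⊗ₜ[R] (1 : R') from rfl]
    refine (Algebra.TensorProduct.lift_tmul _ _ _ _ _).trans ?_
    rw [map_one, mul_one]
    rfl
  · exact RingHom.ext fun w => (ρ.commutes _).trans (hTR w)

/-- The dévissage from its ingredients, given as ring maps. -/
theorem elemDevissage_mk (N : Type u) [AddCommGroup N] [Module S N] [Module.Finite S N] (p : Ideal R) (q : Ideal S) [p.IsPrime]
    [q.IsPrime] (n : ℕ) (I : Ideal S) (hIfg : I.FG) (hIA : I ≤ Module.annihilator S N)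
    (R' S' D E : Type u) [CommRing R'] [CommRing S'] [CommRing D] [CommRing E]
    [Algebra R R'] [Algebra R' D] [Algebra D E] [Module.Finite D E] [Algebra S S'] [Algebra.Etale S S']
    (φR : R' →+* S') (hRS : (algebraMap S S').comp (algebraMap R S) = φR.comp (algebraMap R R'))
    (ρ : S' →+* E) (hρ : Function.Surjective ρ) (hker : RingHom.ker ρ ≤ I.map (algebraMap S S'))
    (hI0 : ∀ a ∈ I, ρ (algebraMap S S' a) = 0)
    (hR'E : ρ.comp φR = (algebraMap D E).comp (algebraMap R' D))
    (p' : Ideal R') (y : Ideal D) (z : Ideal E) [p'.IsPrime] [y.IsPrime] [z.IsPrime]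
    [z.LiesOver y] [hyp : y.LiesOver p'] (hzq : z.comap (ρ.comp (algebraMap S S')) = q)
    (hres : Function.Surjective (Ideal.ResidueField.map q z (ρ.comp (algebraMap S S')) hzq.symm))
    (hR : FlatCA.IsEtaleNhd R R' p p')
    (hpt : PureTrans (Ideal.ResidueField.map p' y (algebraMap R' D) hyp.over))
    (hD : FlatCA.SmoothRelDim n R' D) (hG : FlatCA.GeomIntegralFibres R' D)
    (huniq : ∀ (z₁ : Ideal E) [z₁.IsPrime], z₁.LiesOver y → z₁ = z) :
    Nonempty (FlatCA.ElemDevissage R S N p q n) := by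
  letI : Algebra R' S' := φR.toAlgebra
  letI : Algebra R S' := ((algebraMap S S').comp (algebraMap R S)).toAlgebra
  haveI : IsScalarTower R S S' := IsScalarTower.of_algebraMap_eq fun _ => rfl
  haveI : IsScalarTower R R' S' := IsScalarTower.of_algebraMap_eq' hRS
  letI : Algebra S' E := ρ.toAlgebra
  letI : Algebra S E := (ρ.comp (algebraMap S S')).toAlgebra
  haveI : IsScalarTower S S' E := IsScalarTower.of_algebraMap_eq fun _ => rfl
  letI : Algebra R' E := ((algebraMap D E).comp (algebraMap R' D)).toAlgebra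
  haveI : IsScalarTower R' D E := IsScalarTower.of_algebraMap_eq fun _ => rfl
  haveI : IsScalarTower R' S' E := IsScalarTower.of_algebraMap_eq' hR'E.symm
  let q' : Ideal S' := z.comap ρ
  have hq : q = q'.comap (algebraMap S S') := hzq.symm.trans (Ideal.comap_comap _ _).symm
  haveI : q'.LiesOver p' := ⟨by
    show p' = (z.comap ρ).comap φR
    rw [Ideal.comap_comap, hR'E, ← Ideal.comap_comap]
    exact hyp.over.trans (congrArg (Ideal.comap _) (Ideal.LiesOver.over (P := z) (p := y)))⟩
  haveI : z.LiesOver q' := ⟨rfl⟩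
  have hS : FlatCA.IsEtaleNhd S S' q q' := by
    refine ⟨inferInstance, ⟨hq⟩, RingHom.injective _, ?_⟩
    intro w
    obtain ⟨v, hv⟩ := hres (Ideal.ResidueField.map q' z ρ rfl w)
    refine ⟨v, (Ideal.ResidueField.map q' z ρ rfl).injective ?_⟩
    rw [← hv, ← residueField_map_comp (algebraMap S S') ρ q q' z hq rfl hzq.symm]
    rfl
  have hkerS : RingHom.ker (algebraMap S' E) = I.map (algebraMap S S') :=
    le_antisymm hker (Ideal.map_le_iff_le_comap.2 fun a ha => hI0 a ha)
  refine ⟨{
    R' := R', S' := S', C := E, D := D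
    N' := S' ⊗[S] N
    G := E ⊗[S] N
    p' := p', q' := q', z := z, y := y
    etaleR := hR
    etaleS := hS
    f := TensorProduct.mk S S' N 1
    isBaseChange := TensorProduct.isBaseChange S N S'
    surjC := hρ
    fpC := Algebra.FinitePresentation.of_surjective (f := Algebra.ofId S' E) hρ (hkerS ▸ hIfg.map _)
    iso := LinearEquiv.ofBijective _ (bijective_map_tensor I hIA hρ hker)
    finiteDC := inferInstance
    finiteG := Module.Finite.base_change S E N
    uniq := huniq
    pureTrans := purelyTranscendental_of_pureTrans p' y hpt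
    smooth := hD
    geomInt := hG }⟩

/-- The map out of a localisation. -/
theorem exists_away_lift {A B : Type u} [CommRing A] [CommRing B] (r : A) (A' : Type u) [CommRing A'] [Algebra A A']
    [IsLocalization.Away r A'] (f : A →+* B) (hu : IsUnit (f r)) : ∃ g : A' →+* B, g.comp (algebraMap A A') = f :=
  ⟨IsLocalization.Away.lift r hu, RingHom.ext fun a => IsLocalization.Away.lift_eq r hu a⟩

/-- Existence of an elementary dévissage at a point of the fibre support. -/
theorem nonempty_elemDevissage [Algebra.FiniteType R S] (N : Type u) [AddCommGroup N] [Module S N] [Module R N]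
    [IsScalarTower R S N] [Module.Finite S N] (p : Ideal R) [p.IsPrime] (q : Ideal S) [q.IsPrime] [q.LiesOver p]
    (n : ℕ) (x : PrimeSpectrum (p.Fiber S)) (hxq : x.asIdeal = FlatCA.fiberIdeal p q)
    (hx : x ∈ Module.support (p.Fiber S) (FlatCA.fiberMod p S N))
    (hn : FlatMor.localDim (Module.support (p.Fiber S) (FlatCA.fiberMod p S N)) ⟨x, hx⟩ = n) :
    Nonempty (FlatCA.ElemDevissage R S N p q n) := by
  obtain ⟨I, hIfg, hIA, hIq, qb, hqb, hdim⟩ := exists_fg_fibre_support N p q n x hxq hx hn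
  haveI : qb.asIdeal.LiesOver p := ⟨by
    refine (Ideal.LiesOver.over (P := q) (p := p)).trans ?_
    rw [← hqb]
    rfl⟩
  obtain ⟨R', D, C, _, _, _, _, _, _, _, _, _, _, _, _, p', y, z, _, _, _, _, _, hR, hC, hD, hG, _, ⟨hy, hpt⟩, huniq⟩ :=
    exists_ring_structure p qb.asIdeal n hdim
  obtain ⟨hCet, hzq, hCres⟩ := hC
  obtain ⟨hRet, hp'p, hRres⟩ := hR
  haveI := hp'p
  haveI := hzq
  haveI := hCet
  haveI := hRet
  haveI : Algebra.Smooth R' D := by
    haveI := hD
    let φ := CommRingCat.ofHom (algebraMap R' D)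
    have hs : AlgebraicGeometry.Smooth (AlgebraicGeometry.Spec.map φ) :=
      AlgebraicGeometry.SmoothOfRelativeDimension.smooth n _
    have h1 : (algebraMap R' D).Smooth :=
      (AlgebraicGeometry.HasRingHomProperty.Spec_iff (P := @AlgebraicGeometry.Smooth) (φ := φ)).1 hs
    exact RingHom.smooth_algebraMap.1 h1
  obtain ⟨c, hc, hpiece⟩ := exists_piece (R := R) I R' C z
  obtain ⟨r, d, hr, hd, hrd, ⟨k, hk⟩, hsurj⟩ := exists_shrink_elements p' y z huniq c hc
  have hrd' : algebraMap R' C r ∣ algebraMap D C d := by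
    rw [IsScalarTower.algebraMap_apply R' D C]; exact map_dvd _ hrd
  obtain ⟨S', _, φS, φR, ρ, hφS, hRS, hρ, hker, hρS, hρR, hur⟩ := hpiece (algebraMap D C d) r k hk hrd'
  let R₂ := Localization.Away r
  let D₂ := Localization.Away d
  let E := Localization.Away (algebraMap D C d)
  letI : Algebra S S' := φS.toAlgebra
  haveI : Algebra.Etale S S' := hφS
  have hu : IsUnit ((algebraMap D D₂).comp (algebraMap R' D) r) :=
    isUnit_of_dvd_unit (map_dvd (algebraMap D D₂) hrd) (IsLocalization.Away.algebraMap_isUnit d)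
  obtain ⟨ψ₂, hψ₂⟩ := exists_away_lift r R₂ ((algebraMap D D₂).comp (algebraMap R' D)) hu
  letI : Algebra R₂ D₂ := ψ₂.toAlgebra
  have hRD : (algebraMap R₂ D₂).comp (algebraMap R' R₂) = (algebraMap D D₂).comp (algebraMap R' D) := hψ₂
  obtain ⟨θ₂, hθ₂⟩ := exists_away_lift d D₂ ((algebraMap C E).comp (algebraMap D C))
    (IsLocalization.Away.algebraMap_isUnit (algebraMap D C d))
  letI : Algebra D₂ E := θ₂.toAlgebra
  have hDE : (algebraMap D₂ E).comp (algebraMap D D₂) = (algebraMap C E).comp (algebraMap D C) := hθ₂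
  haveI : IsScalarTower D D₂ E :=
    IsScalarTower.of_algebraMap_eq' ((IsScalarTower.algebraMap_eq D C E).trans hDE.symm)
  haveI : IsLocalization (Algebra.algebraMapSubmonoid C (Submonoid.powers d)) E := by
    rw [Algebra.algebraMapSubmonoid_powers]
    infer_instance
  haveI : Module.Finite D₂ E := Module.Finite.of_isLocalization D C (Submonoid.powers d)
  obtain ⟨φR₂, hφR₂⟩ := exists_away_lift r R₂ φR hur
  -- the points
  have hdz : algebraMap D C d ∉ z := fun h => hd ((Ideal.LiesOver.over (P := z) (p := y)).symm ▸ h)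
  obtain ⟨z₂, hz₂⟩ : (⟨z, inferInstance⟩ : PrimeSpectrum C) ∈ Set.range (PrimeSpectrum.comap (algebraMap C E)) := by
    rw [PrimeSpectrum.localization_away_comap_range E (algebraMap D C d)]; exact hdz
  have hz₂' : z₂.asIdeal.comap (algebraMap C E) = z := congrArg PrimeSpectrum.asIdeal hz₂
  let y₂ := z₂.asIdeal.comap (algebraMap D₂ E)
  let p₂ := y₂.comap (algebraMap R₂ D₂)
  haveI : z₂.asIdeal.LiesOver y₂ := ⟨rfl⟩
  haveI : y₂.LiesOver p₂ := ⟨rfl⟩
  have hy₂ : y = y₂.comap (algebraMap D D₂) := by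
    rw [Ideal.comap_comap, hDE, ← Ideal.comap_comap, hz₂']
    exact Ideal.LiesOver.over
  have hp₂ : p' = p₂.comap (algebraMap R' R₂) := by
    rw [Ideal.comap_comap, hRD, ← Ideal.comap_comap, ← hy₂]
    exact Ideal.LiesOver.over
  have hRR₂ : algebraMap R R₂ = (algebraMap R' R₂).comp (algebraMap R R') := IsScalarTower.algebraMap_eq R R' R₂
  haveI : Algebra.Etale R' R₂ := Algebra.Etale.of_isLocalizationAway r
  haveI : Algebra.Etale R R₂ := Algebra.Etale.comp R R' R₂
  haveI hp₂p : p₂.LiesOver p := ⟨by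
    show p = p₂.comap (algebraMap R R₂)
    rw [hRR₂, ← Ideal.comap_comap, ← hp₂]
    exact Ideal.LiesOver.over⟩
  have hR₂ : FlatCA.IsEtaleNhd R R₂ p p₂ := by
    refine ⟨inferInstance, hp₂p, ?_⟩
    show Function.Bijective (Ideal.ResidueField.map p p₂ (algebraMap R R₂) hp₂p.over)
    rw [residueField_map_congr hRR₂ p p₂ hp₂p.over (hRR₂ ▸ hp₂p.over),
      ← residueField_map_comp (algebraMap R R') (algebraMap R' R₂) p p' p₂ hp'p.over hp₂,
      RingHom.coe_comp]
    exact (surjective_localization_residue r p' p₂ hp₂).comp hRres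
  have hρSE : ρ.comp φS = ((algebraMap C E).comp (algebraMap (S ⧸ I) C)).comp (Ideal.Quotient.mk I) := hρS
  have hzq₂ : z₂.asIdeal.comap (ρ.comp (algebraMap S S')) = q := by
    show z₂.asIdeal.comap (ρ.comp φS) = q
    rw [hρSE, ← Ideal.comap_comap, ← Ideal.comap_comap, hz₂',
      show z.comap (algebraMap (S ⧸ I) C) = qb.asIdeal from hzq.over.symm, hqb]
  refine elemDevissage_mk N p q n I hIfg hIA R₂ S' D₂ E φR₂ ?_ ρ hρ hker ?_ ?_ p₂ y₂ z₂.asIdeal hzq₂ ?_ hR₂ ?_
    (smooth_geomInt_away r d hRD n hD hG hsurj).1 (smooth_geomInt_away r d hRD n hD hG hsurj).2 ?_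
  · show φS.comp (algebraMap R S) = φR₂.comp (algebraMap R R₂)
    rw [hRR₂]
    rw [hRS, ← RingHom.comp_assoc, hφR₂]
  · intro a ha
    show (ρ.comp φS) a = 0
    rw [hρSE, RingHom.comp_apply, Ideal.Quotient.eq_zero_iff_mem.2 ha, map_zero]
  · refine IsLocalization.ringHom_ext (Submonoid.powers r) ?_
    rw [RingHom.comp_assoc, hφR₂, hρR, RingHom.comp_assoc, hRD, ← RingHom.comp_assoc, hDE, RingHom.comp_assoc,
      IsScalarTower.algebraMap_eq R' D C]
  · rw [residueField_map_congr (show ρ.comp (algebraMap S S') = _ from hρSE) q z₂.asIdeal hzq₂.symm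
        (by rw [← hρSE]; exact hzq₂.symm),
      ← residueField_map_comp (Ideal.Quotient.mk I) ((algebraMap C E).comp (algebraMap (S ⧸ I) C))
        q qb.asIdeal z₂.asIdeal hqb.symm (by rw [← Ideal.comap_comap, hz₂']; exact hzq.over),
      ← residueField_map_comp (algebraMap (S ⧸ I) C) (algebraMap C E) qb.asIdeal z z₂.asIdeal hzq.over hz₂'.symm,
      RingHom.coe_comp, RingHom.coe_comp]
    exact ((surjective_localization_residue (algebraMap D C d) z z₂.asIdeal hz₂'.symm).2.comp hCres.2).comp
      ((RingHom.surjectiveOnStalks_of_surjective Ideal.Quotient.mk_surjective).residueFieldMap_bijective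
        q qb.asIdeal hqb.symm).2
  · refine hpt.congr _ (RingEquiv.ofBijective _ (surjective_localization_residue r p' p₂ hp₂))
      (RingEquiv.ofBijective _ (surjective_localization_residue d y y₂ hy₂)) fun a => ?_
    show Ideal.ResidueField.map p₂ y₂ (algebraMap R₂ D₂) rfl (Ideal.ResidueField.map p' p₂ (algebraMap R' R₂) hp₂ a) =
      Ideal.ResidueField.map y y₂ (algebraMap D D₂) hy₂ (Ideal.ResidueField.map p' y (algebraMap R' D) hy a)
    rw [← RingHom.comp_apply, ← RingHom.comp_apply,
      residueField_map_comp (algebraMap R' R₂) (algebraMap R₂ D₂) p' p₂ y₂ hp₂ rfl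
        (by rw [← Ideal.comap_comap]; exact hp₂),
      residueField_map_comp (algebraMap R' D) (algebraMap D D₂) p' y y₂ hy hy₂
        (by rw [← Ideal.comap_comap, ← hy₂]; exact hy)]
    exact DFunLike.congr_fun (residueField_map_congr hRD p' y₂ _ _) a
  · intro z₁ _ hz₁
    haveI : (z₁.comap (algebraMap C E)).LiesOver y := ⟨by
      show y = (z₁.comap (algebraMap C E)).comap (algebraMap D C)
      rw [Ideal.comap_comap, ← hDE, ← Ideal.comap_comap]
      exact hy₂.trans (congrArg (Ideal.comap _) hz₁.over)⟩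
    have h1 := huniq (z₁.comap (algebraMap C E)) inferInstance
    rw [← IsLocalization.map_comap (Submonoid.powers (algebraMap D C d)) E z₁,
      ← IsLocalization.map_comap (Submonoid.powers (algebraMap D C d)) E z₂.asIdeal]
    exact congrArg (Ideal.map _) (h1.trans hz₂'.symm)

end Groth.Agent.GeomNbhd4
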