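import Groth.Prelude.Def_FlatCA
import Mathlib

/-!
# Finite multisections of smooth algebras after an étale localisation of the base
-/

universe u

open TensorProduct Polynomial

namespace Groth.Agent.GeomNbhd4

variable {A : Type u} [CommRing A] (p : Ideal A) [p.IsPrime]

theorem exists_lift_residueField (z : p.ResidueField) :
    ∃ a, a ∉ p ∧ ∃ r : A, algebraMap A p.ResidueField r = a • z := by
  obtain ⟨w, rfl⟩ := IsLocalRing.residue_surjective z
  obtain ⟨r, a, rfl⟩ := IsLocalization.exists_mk'_eq p.primeCompl w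
  refine ⟨a, a.2, r, ?_⟩
  rw [Algebra.smul_def, IsScalarTower.algebraMap_apply A (Localization.AtPrime p) p.ResidueField,
    IsScalarTower.algebraMap_apply A (Localization.AtPrime p) p.ResidueField]
  show IsLocalRing.residue _ _ = IsLocalRing.residue _ _ * IsLocalRing.residue _ _
  rw [← map_mul, IsLocalization.mk'_spec']

variable (L : Type u) [Field L] [Algebra A L] [Algebra p.ResidueField L]
  [IsScalarTower A p.ResidueField L] [FiniteDimensional p.ResidueField L]

/-- Elements of a finite residue extension become, after clearing a denominator, images of elements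
of a finite free algebra. -/
theorem exists_finite_free (n : ℕ) (t : Fin n → L) :
    ∃ (a : A) (D : Type u) (_ : CommRing D) (_ : Algebra A D) (χ : D →ₐ[A] L) (d : Fin n → D),
      a ∉ p ∧ Module.Finite A D ∧ Module.Free A D ∧ ∀ i, χ (d i) = algebraMap A L a * t i := by
  classical
  induction n with
  | zero =>
    exact ⟨1, A, inferInstance, inferInstance, Algebra.ofId A L, Fin.elim0, p.one_notMem,
      inferInstance, inferInstance, fun i => i.elim0⟩
  | succ n ih =>
    obtain ⟨a, D, _, _, χ, d, ha, _, _, hd⟩ := ih fun i => t i.castSucc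
    let K := p.ResidueField
    let μ := minpoly K (t (Fin.last n))
    have hint : IsIntegral K (t (Fin.last n)) := Algebra.IsIntegral.isIntegral _
    choose c hc r hr using exists_lift_residueField p
    let b : A := ∏ i ∈ Finset.range (μ.natDegree + 1), c (μ.coeff i)
    have hb : b ∉ p := fun h => by
      obtain ⟨i, -, hi⟩ := (inferInstance : p.IsPrime).prod_mem_iff.1 h
      exact hc _ hi
    set bK : K := algebraMap A K b with hbK
    have hlift : μ.scaleRoots bK ∈ Polynomial.lifts (algebraMap A K) := by
      rw [lifts_iff_coeff_lifts]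
      intro i
      rw [coeff_scaleRoots]
      rcases lt_trichotomy i μ.natDegree with h | h | h
      · obtain ⟨e, he⟩ : c (μ.coeff i) ∣ b :=
          Finset.dvd_prod_of_mem _ (Finset.mem_range.2 (by omega))
        refine ⟨r (μ.coeff i) * e * b ^ (μ.natDegree - i - 1), ?_⟩
        have h1 : algebraMap A K (r (μ.coeff i) * e) = μ.coeff i * bK := by
          rw [map_mul, hr, hbK, he, map_mul, Algebra.smul_def]; ring
        rw [map_mul, map_pow, ← hbK, h1, mul_assoc, ← pow_succ']
        congr 2
        omega
      · exact ⟨1, by rw [h, (minpoly.monic hint).coeff_natDegree, Nat.sub_self, pow_zero, one_mul, map_one]⟩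
      · exact ⟨0, by rw [coeff_eq_zero_of_natDegree_lt h]; simp⟩
    obtain ⟨P, hPmap, -, hPmon⟩ :=
      lifts_and_natDegree_eq_and_monic hlift ((monic_scaleRoots_iff bK).mpr (minpoly.monic hint))
    have hroot : aeval (algebraMap A L b * t (Fin.last n)) P = 0 := by
      rw [IsScalarTower.algebraMap_apply A K L, ← hbK, ← aeval_map_algebraMap K, hPmap]
      exact scaleRoots_aeval_eq_zero (minpoly.aeval K _)
    let PD : D[X] := P.map (algebraMap A D)
    have hPD : PD.Monic := hPmon.map _
    let D' := AdjoinRoot PD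
    haveI : Module.Finite D D' := (AdjoinRoot.powerBasis' hPD).finite
    haveI : Module.Free D D' := Module.Free.of_basis (AdjoinRoot.powerBasis' hPD).basis
    haveI : Module.Finite A D' := Module.Finite.trans D D'
    haveI : Module.Free A D' := Module.Free.trans (R := A) (S := D) (M := D')
    have hev : eval₂ χ.toRingHom (algebraMap A L b * t (Fin.last n)) PD = 0 := by
      rw [eval₂_map, show χ.toRingHom.comp (algebraMap A D) = algebraMap A L from χ.comp_algebraMap,
        ← aeval_def, hroot]
    let χ' : D' →ₐ[A] L :=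
      { AdjoinRoot.lift χ.toRingHom _ hev with
        commutes' := fun x => by
          show AdjoinRoot.lift χ.toRingHom _ hev (algebraMap A D' x) = _
          rw [IsScalarTower.algebraMap_apply A D D', AdjoinRoot.algebraMap_eq, AdjoinRoot.lift_of]
          exact χ.commutes x }
    refine ⟨a * b, D', inferInstance, inferInstance, χ',
      Fin.lastCases (algebraMap A D' a * AdjoinRoot.root PD)
        (fun i => algebraMap A D' b * algebraMap D D' (d i)),
      fun h => ((inferInstance : p.IsPrime).mem_or_mem h).elim ha hb, inferInstance, inferInstance,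
      fun i => ?_⟩
    refine Fin.lastCases ?_ (fun i => ?_) i
    · simp only [Fin.lastCases_last]
      rw [map_mul, AlgHom.commutes, map_mul, mul_assoc]
      congr 1
      exact AdjoinRoot.lift_root hev
    · simp only [Fin.lastCases_castSucc]
      rw [map_mul, AlgHom.commutes, map_mul]
      rw [show χ' (algebraMap D D' (d i)) = χ (d i) from AdjoinRoot.lift_of hev, hd]
      ring

/-- A flat quasi-finite algebra becomes, at a prime after an étale localisation of the base, a finite
flat piece with a single prime over the new point. -/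
theorem exists_etale_piece {Z' : Type u} [CommRing Z'] [Algebra A Z'] [Module.Flat A Z']
    [Algebra.FinitePresentation A Z'] [Algebra.QuasiFinite A Z'] (q : Ideal Z') [q.IsPrime]
    [q.LiesOver p] {B : Type u} [CommRing B] [Algebra A B] (ψ₀ : B →ₐ[A] Z') :
    ∃ (R' : Type u) (_ : CommRing R') (_ : Algebra A R') (p' : Ideal R') (_ : p'.IsPrime)
      (Z : Type u) (_ : CommRing Z) (_ : Algebra A Z) (_ : Algebra R' Z) (_ : IsScalarTower A R' Z)
      (ψ : B →ₐ[A] Z) (P : Ideal Z) (_ : P.IsPrime) (_ : P.LiesOver p'),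
      FlatCA.IsEtaleNhd A R' p p' ∧ Module.Finite R' Z ∧ Module.Flat R' Z ∧
      Algebra.FinitePresentation R' Z ∧ P.comap ψ.toRingHom = q.comap ψ₀.toRingHom ∧
      ∀ P₁ : Ideal Z, P₁.IsPrime → P₁.LiesOver p' → P₁ = P := by
  obtain ⟨R', _, _, _, p', _, _, e, _, P', _, _, hP'q, heP', hbij, hfin, huniq⟩ :=
    Algebra.exists_etale_isIdempotentElem_forall_liesOver_eq p q
  let Z := Localization.Away e
  let ψ : B →ₐ[A] Z := (IsScalarTower.toAlgHom A (R' ⊗[A] Z') Z).comp
    ((Algebra.TensorProduct.includeRight (R := A) (A := R')).comp ψ₀)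
  have hdisj : Disjoint (Submonoid.powers e : Set (R' ⊗[A] Z')) P' := by
    rw [Ideal.disjoint_powers_iff_notMem_of_isPrime]; exact heP'
  let P := P'.map (algebraMap (R' ⊗[A] Z') Z)
  haveI hPp : P.IsPrime := IsLocalization.isPrime_of_isPrime_disjoint (.powers e) Z P' inferInstance hdisj
  have hPc : P.comap (algebraMap (R' ⊗[A] Z') Z) = P' :=
    IsLocalization.comap_map_of_isPrime_disjoint (.powers e) Z inferInstance hdisj
  haveI : P.LiesOver p' := ⟨by
    rw [Ideal.under, IsScalarTower.algebraMap_eq R' (R' ⊗[A] Z') Z, ← Ideal.comap_comap, hPc]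
    exact Ideal.LiesOver.over⟩
  haveI : Module.Flat R' Z := Module.Flat.trans R' (R' ⊗[A] Z') Z
  haveI : Algebra.FinitePresentation R' Z := Algebra.FinitePresentation.trans R' (R' ⊗[A] Z') Z
  refine ⟨R', inferInstance, inferInstance, p', inferInstance, Z, inferInstance, inferInstance,
    inferInstance, inferInstance, ψ, P, inferInstance, inferInstance, ⟨inferInstance, ‹_›, hbij⟩,
    hfin, inferInstance, inferInstance, ?_, fun P₁ h1 h2 => ?_⟩
  · show P.comap ((algebraMap (R' ⊗[A] Z') Z).comp
      ((Algebra.TensorProduct.includeRight (R := A) (A := R')).toRingHom.comp ψ₀.toRingHom)) = _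
    rw [← Ideal.comap_comap, hPc, ← Ideal.comap_comap, hP'q]
  · haveI := h1
    have hh : (P₁.comap (algebraMap (R' ⊗[A] Z') Z)) = P' := by
      refine huniq _ inferInstance ⟨?_⟩ ?_
      · rw [Ideal.under, Ideal.comap_comap, ← IsScalarTower.algebraMap_eq]
        exact h2.over
      · intro he
        exact h1.ne_top (Ideal.eq_top_of_isUnit_mem _ he (IsLocalization.Away.algebraMap_isUnit e))
    rw [← IsLocalization.map_comap (.powers e) Z P₁]
    exact congrArg (Ideal.map _) hh

/-- A point with finite residue extension of a smooth algebra lies, after an étale localisation of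
the base, on a finite flat multisection meeting the special fibre only there. -/
theorem exists_multisection {B : Type u} [CommRing B] [Algebra A B] [Algebra.Smooth A B]
    (θ : B →ₐ[A] L) :
    ∃ (R' : Type u) (_ : CommRing R') (_ : Algebra A R') (p' : Ideal R') (_ : p'.IsPrime)
      (Z : Type u) (_ : CommRing Z) (_ : Algebra A Z) (_ : Algebra R' Z) (_ : IsScalarTower A R' Z)
      (ψ : B →ₐ[A] Z) (P : Ideal Z) (_ : P.IsPrime) (_ : P.LiesOver p'),
      FlatCA.IsEtaleNhd A R' p p' ∧ Module.Finite R' Z ∧ Module.Flat R' Z ∧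
      Algebra.FinitePresentation R' Z ∧ P.comap ψ.toRingHom = RingHom.ker θ.toRingHom ∧
      ∀ P₁ : Ideal Z, P₁.IsPrime → P₁.LiesOver p' → P₁ = P := by
  classical
  -- a standard smooth neighbourhood
  haveI hQp : (RingHom.ker θ.toRingHom).IsPrime := RingHom.ker_isPrime _
  obtain ⟨T, hT, hst⟩ := Algebra.Smooth.exists_span_eq_top_isStandardSmooth A B
  obtain ⟨s, hsT, hs⟩ : ∃ s ∈ T, θ s ≠ 0 := by
    by_contra hcon
    push Not at hcon
    exact hQp.ne_top (top_le_iff.1 (hT ▸ Ideal.span_le.2 hcon))
  let Bs := Localization.Away s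
  haveI : Algebra.IsStandardSmooth A Bs := hst s hsT
  obtain ⟨ι, σ, _, _, ⟨Pr⟩⟩ := Algebra.IsStandardSmooth.out (R := A) (S := Bs)
  haveI : Algebra.IsStandardSmoothOfRelativeDimension Pr.dimension A Bs :=
    ⟨ι, σ, _, inferInstance, Pr, rfl⟩
  obtain ⟨g, hg⟩ :=
    Algebra.IsStandardSmoothOfRelativeDimension.exists_etale_mvPolynomial A Bs (n := Pr.dimension)
  have hθs : ∀ y : Submonoid.powers s, IsUnit (θ y) := by
    rintro ⟨_, k, rfl⟩
    rw [map_pow]; exact (isUnit_iff_ne_zero.2 hs).pow k
  let θs : Bs →ₐ[A] L := IsLocalization.liftAlgHom hθs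
  obtain ⟨a, D, _, _, χ, d, ha, _, _, hd⟩ :=
    exists_finite_free p L Pr.dimension fun i => θs (g (MvPolynomial.X i))
  have haL : algebraMap A L a ≠ 0 := by
    rw [IsScalarTower.algebraMap_apply A p.ResidueField L]
    exact (_root_.map_ne_zero _).2 (by rwa [Ne, Ideal.algebraMap_residueField_eq_zero])
  -- the finite free algebra with the denominator inverted
  let D₁ := Localization.Away (algebraMap A D a)
  haveI : Algebra.QuasiFinite A D₁ := Algebra.QuasiFinite.trans A D D₁
  haveI : Module.FinitePresentation A D := Module.finitePresentation_of_projective A D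
  haveI : Algebra.FinitePresentation A D₁ := Algebra.FinitePresentation.trans A D D₁
  haveI : Module.Flat A D₁ := Module.Flat.trans A D D₁
  have hχ1 : ∀ y : Submonoid.powers (algebraMap A D a), IsUnit (χ y) := by
    rintro ⟨_, k, rfl⟩
    rw [map_pow, AlgHom.commutes]; exact (isUnit_iff_ne_zero.2 haL).pow k
  let χ₁ : D₁ →ₐ[A] L := IsLocalization.liftAlgHom hχ1
  let w : D₁ := IsLocalization.Away.invSelf (algebraMap A D a)
  let ev : MvPolynomial (Fin Pr.dimension) A →ₐ[A] D₁ :=
    MvPolynomial.aeval fun i => algebraMap D D₁ (d i) * w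
  have hev : χ₁.comp ev = θs.comp g := by
    refine MvPolynomial.algHom_ext fun i => ?_
    show χ₁ (ev (MvPolynomial.X i)) = θs (g (MvPolynomial.X i))
    have h1 : χ₁ (algebraMap D D₁ (algebraMap A D a)) * χ₁ w = 1 := by
      rw [← map_mul, IsLocalization.Away.mul_invSelf, map_one]
    have h2 : ∀ x, χ₁ (algebraMap D D₁ x) = χ x := fun x => IsLocalization.lift_eq _ x
    rw [h2, AlgHom.commutes] at h1
    simp only [ev, MvPolynomial.aeval_X, map_mul, h2, hd]
    rw [mul_right_comm, h1, one_mul]
  let MP := MvPolynomial (Fin Pr.dimension) A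
  letI : Algebra MP Bs := g.toRingHom.toAlgebra
  haveI : IsScalarTower A MP Bs :=
    IsScalarTower.of_algebraMap_eq (R := A) (S := MP) (A := Bs) fun x => (g.commutes x).symm
  haveI : Algebra.Etale MP Bs := RingHom.etale_algebraMap.1 hg
  letI : Algebra MP D₁ := ev.toRingHom.toAlgebra
  haveI : IsScalarTower A MP D₁ :=
    IsScalarTower.of_algebraMap_eq (R := A) (S := MP) (A := D₁) fun x => (ev.commutes x).symm
  letI : Algebra MP L := (θs.comp g).toRingHom.toAlgebra
  haveI : IsScalarTower A MP L :=
    IsScalarTower.of_algebraMap_eq (R := A) (S := MP) (A := L) fun x => ((θs.comp g).commutes x).symm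
  let Z' := D₁ ⊗[MP] Bs
  haveI : Algebra.Etale D₁ Z' := inferInstance
  haveI : Module.Flat A Z' := Module.Flat.trans A D₁ Z'
  haveI : Algebra.FinitePresentation A Z' := Algebra.FinitePresentation.trans A D₁ Z'
  haveI : Algebra.QuasiFinite D₁ Z' := inferInstance
  haveI : Algebra.QuasiFinite A Z' := Algebra.QuasiFinite.trans A D₁ Z'
  let χ' : D₁ →ₐ[MP] L := { χ₁.toRingHom with commutes' := fun x => AlgHom.congr_fun hev x }
  let θ' : Bs →ₐ[MP] L := { θs.toRingHom with commutes' := fun _ => rfl }
  let φ : Z' →ₐ[MP] L := Algebra.TensorProduct.lift χ' θ' fun _ _ => .all _ _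
  let q : Ideal Z' := RingHom.ker φ.toRingHom
  haveI : q.IsPrime := RingHom.ker_isPrime _
  haveI : q.LiesOver p := ⟨by
    ext x
    show x ∈ p ↔ φ (algebraMap A Z' x) = 0
    rw [IsScalarTower.algebraMap_apply A MP Z', AlgHom.commutes, ← IsScalarTower.algebraMap_apply,
      IsScalarTower.algebraMap_apply A p.ResidueField L, _root_.map_eq_zero,
      Ideal.algebraMap_residueField_eq_zero]⟩
  obtain ⟨R', _, _, p', _, Z, _, _, _, _, ψ, P, _, _, h1, h2, h3, h4, h5, h6⟩ :=
    exists_etale_piece p q
      (((Algebra.TensorProduct.includeRight (R := MP) (A := D₁)).restrictScalars A).comp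
        (IsScalarTower.toAlgHom A B Bs))
  refine ⟨R', inferInstance, inferInstance, p', inferInstance, Z, inferInstance, inferInstance,
    inferInstance, inferInstance, ψ, P, inferInstance, inferInstance, h1, h2, h3, h4, ?_, h6⟩
  rw [h5]
  ext x
  show φ ((1 : D₁) ⊗ₜ[MP] algebraMap B Bs x) = 0 ↔ θ x = 0
  rw [Algebra.TensorProduct.lift_tmul, map_one, one_mul]
  exact iff_of_eq (congrArg (· = 0) (IsLocalization.lift_eq _ x))

end Groth.Agent.GeomNbhd4
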