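import Groth.Prelude.Def_Hens2
import Groth.Agent.Lib.GeomNbhd4.Connected
import Groth.Agent.Lib.GeomNbhd4.Multisection
import Groth.Agent.Lib.Weight4.Nbhd
import Groth.Agent.Lib.OrbitTop19.Smooth
import Groth.Agent.Lib.VB17.Setup

/-!
# Geometrically integral smooth neighbourhoods after an étale localisation of the base

For a smooth morphism of affine schemes and a point whose preimage in every geometric fibre is
connected, there is an elementary étale neighbourhood of the image and, over it, an affine elementary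
étale neighbourhood of the point which is smooth with geometrically integral fibres.
-/

set_option autoImplicit false

universe u

open CategoryTheory CategoryTheory.Limits AlgebraicGeometry Topology TopologicalSpace IsLocalRing

set_option backward.isDefEq.respectTransparency.types false

namespace Groth.Agent.GeomNbhd4

theorem fromSpecResidueField_inj {R : Type u} [CommRing R] (y : Spec (CommRingCat.of R)) {T : CommRingCat.{u}}
    {g₁ g₂ : (Spec (CommRingCat.of R)).residueField y ⟶ T}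
    (h : Spec.map g₁ ≫ (Spec (CommRingCat.of R)).fromSpecResidueField y =
      Spec.map g₂ ≫ (Spec (CommRingCat.of R)).fromSpecResidueField y) : g₁ = g₂ :=
  Spec.map_injective ((cancel_mono _).1 h)

theorem residueFieldMap_spec {R S : Type u} [CommRing R] [CommRing S] (φ : R →+* S)
    (x : Spec (CommRingCat.of S)) :
    (Spec.map (CommRingCat.ofHom φ)).residueFieldMap x =
      (Scheme.Spec.residueFieldIso (.of R) (Spec.map (CommRingCat.ofHom φ) x)).hom ≫
        CommRingCat.ofHom (Ideal.ResidueField.map (x.asIdeal.comap φ) x.asIdeal φ rfl) ≫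
          (Scheme.Spec.residueFieldIso (.of S) x).inv := by
  let y := Spec.map (CommRingCat.ofHom φ) x
  let eR := Scheme.Spec.residueFieldIso (.of R) y
  let eS := Scheme.Spec.residueFieldIso (.of S) x
  apply fromSpecResidueField_inj
  rw [Scheme.Hom.SpecMap_residueFieldMap_fromSpecResidueField,
    ← Scheme.Spec.map_residueFieldIso_inv_eq_fromSpecResidueField,
    ← Scheme.Spec.map_residueFieldIso_inv_eq_fromSpecResidueField, Category.assoc, ← Spec.map_comp,
    ← Spec.map_comp, ← Spec.map_comp, ← Spec.map_comp]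
  congr 1
  simp only [eR, Category.assoc]
  erw [Iso.inv_hom_id_assoc]
  ext r
  show eS.inv (algebraMap S _ (φ r)) = eS.inv (Ideal.ResidueField.map _ x.asIdeal φ rfl (algebraMap R _ r))
  exact congrArg eS.inv (Ideal.ResidueField.map_algebraMap _ _ φ rfl r).symm

theorem bijective_residueFieldMap_iff {R S : Type u} [CommRing R] [CommRing S] (φ : R →+* S)
    (x : Spec (CommRingCat.of S)) (p : Ideal R) [p.IsPrime] (hp : p = x.asIdeal.comap φ) :
    Function.Bijective ((Spec.map (CommRingCat.ofHom φ)).residueFieldMap x) ↔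
      Function.Bijective (Ideal.ResidueField.map p x.asIdeal φ hp) := by
  subst hp
  let eR := Scheme.Spec.residueFieldIso (.of R) (Spec.map (CommRingCat.ofHom φ) x)
  let eS := Scheme.Spec.residueFieldIso (.of S) x
  have h : (Spec.map (CommRingCat.ofHom φ)).residueFieldMap x =
      eR.hom ≫ CommRingCat.ofHom (Ideal.ResidueField.map _ x.asIdeal φ rfl) ≫ eS.inv :=
    residueFieldMap_spec φ x
  rw [h]
  constructor
  · intro hb
    have hb' : Function.Bijective (eS.inv ∘ (Ideal.ResidueField.map _ x.asIdeal φ rfl) ∘ eR.hom) := hb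
    exact ((ConcreteCategory.bijective_of_isIso eS.inv).of_comp_iff' _).1 hb' |>
      (Function.Bijective.of_comp_iff _ (ConcreteCategory.bijective_of_isIso eR.hom)).1
  · intro hb
    exact (ConcreteCategory.bijective_of_isIso eS.inv).comp
      (hb.comp (ConcreteCategory.bijective_of_isIso eR.hom))

theorem bijective_residueFieldMap_congr {X Y : Scheme.{u}} (f : X ⟶ Y) {x x' : X} (e : x = x')
    (h : Function.Bijective (f.residueFieldMap x)) : Function.Bijective (f.residueFieldMap x') := by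
  subst e; exact h

/-- An elementary étale ring map gives an elementary étale neighbourhood. -/
theorem isEtaleNbhd_spec {R R' : Type u} [CommRing R] [CommRing R'] [Algebra R R'] (p : Ideal R)
    [p.IsPrime] (p' : Ideal R') [p'.IsPrime] (h : FlatCA.IsEtaleNhd R R' p p') :
    Hens2.IsEtaleNbhd (Spec.map (CommRingCat.ofHom (algebraMap R R'))) (⟨p', ‹_›⟩ : PrimeSpectrum R')
      (⟨p, ‹_›⟩ : PrimeSpectrum R) := by
  obtain ⟨het, hl, hbij⟩ := h
  refine ⟨(HasRingHomProperty.Spec_iff (P := @Etale)).2 (RingHom.etale_algebraMap.2 het),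
    PrimeSpectrum.ext hl.over.symm, ?_⟩
  exact (bijective_residueFieldMap_iff (algebraMap R R') ⟨p', ‹_›⟩ p hl.over).2 hbij

variable {Y S : Scheme.{u}} (h : Y ⟶ S) [Smooth h]

/-- Geometric integrality from connected geometric fibres of an ambient open. -/
theorem geometricallyIntegral_of_connected [IsAffine Y] [IsAffine S] (U : Y.Opens) {Y' S' : Scheme.{u}}
    (i : Y' ⟶ Y) [IsOpenImmersion i] (j : S' ⟶ S) [IsOpenImmersion j] (h' : Y' ⟶ S') [Surjective h']
    (w : h' ≫ j = i ≫ h) (hiU : Set.range i ⊆ U)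
    (hU : ∀ (K : Type u) [Field K] (k : Spec (CommRingCat.of K) ⟶ S), k (closedPoint K) ∈ Set.range j →
        _root_.IsPreconnected (pullback.fst h k ⁻¹' (U : Set Y))) :
    GeometricallyIntegral h' := by
  refine ⟨fun K _ k Z fst snd hZ => ?_⟩
  let k' := k ≫ j
  let Yk := pullback h k'
  haveI : Smooth (pullback.snd h k') := MorphismProperty.pullback_snd _ _ inferInstance
  haveI : IsAffine Yk := inferInstance
  haveI : IsLocallyNoetherian Yk := LocallyOfFiniteType.isLocallyNoetherian (pullback.snd h k')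
  haveI : IsNoetherian Yk := {}
  let O : Yk.Opens := pullback.fst h k' ⁻¹ᵁ U
  let m : Z ⟶ Yk := hZ.isoPullback.hom ≫
    pullback.map h' k h k' i (𝟙 _) j w (Category.id_comp _).symm
  haveI : IsOpenImmersion m := inferInstance
  obtain ⟨z, -⟩ : ∃ z : Z, True := by
    obtain ⟨y, hy⟩ := h'.surjective (k (closedPoint K))
    obtain ⟨z, -, -⟩ := Scheme.Pullback.exists_preimage_pullback (f := h') (g := k) y (closedPoint K) hy
    exact ⟨hZ.isoPullback.inv z, trivial⟩
  have hmO : Set.range m ⊆ O := by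
    rintro _ ⟨z, rfl⟩
    show pullback.fst h k' (m z) ∈ U
    rw [← Scheme.Hom.comp_apply, Category.assoc, pullback.map, pullback.lift_fst,
      hZ.isoPullback_hom_fst_assoc]
    exact hiU ⟨_, rfl⟩
  have hpc : _root_.IsPreconnected (O : Set Yk) := hU K k' ⟨k (closedPoint K), rfl⟩
  haveI : ConnectedSpace (O : Scheme.{u}) :=
    Subtype.connectedSpace ⟨⟨m z, hmO ⟨z, rfl⟩⟩, hpc⟩
  haveI : IsLocallyNoetherian (O : Scheme.{u}) := LocallyOfFiniteType.isLocallyNoetherian O.ι
  haveI : CompactSpace (O : Scheme.{u}) := isCompact_iff_compactSpace.1 (TopologicalSpace.NoetherianSpace.isCompact _)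
  haveI : IsNoetherian (O : Scheme.{u}) := {}
  haveI : IsIntegral (O : Scheme.{u}) := VB17.isIntegral_of_connected fun x =>
    SmoothReg17.isDomain_stalk (O.ι ≫ pullback.snd h k') x
  haveI : Nonempty Z := ⟨z⟩
  exact isIntegral_of_isOpenImmersion (IsOpenImmersion.lift O.ι m (by rw [O.range_ι]; exact hmO))

/-- Shrinking an open with connected geometric fibres to an affine, geometrically integral piece. -/
theorem exists_shrink [IsAffine Y] [IsAffine S] (y₀ : Y) (s₀ : S) (hy₀ : h y₀ = s₀) (U : Y.Opens)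
    (W : S.Opens) (hsW : s₀ ∈ W) (hyU : y₀ ∈ U)
    (hUW : ∀ (K : Type u) [Field K] (k : Spec (CommRingCat.of K) ⟶ S), k (closedPoint K) ∈ W →
        _root_.IsPreconnected (pullback.fst h k ⁻¹' (U : Set Y))) :
    ∃ (S₁ : S.Opens) (Y' : Scheme.{u}) (i : Y' ⟶ Y) (h' : Y' ⟶ S₁) (s₁ : S₁) (y' : Y'),
      IsAffine (S₁ : Scheme.{u}) ∧ IsAffine Y' ∧ IsOpenImmersion i ∧ Smooth h' ∧
      GeometricallyIntegral h' ∧ h' ≫ S₁.ι = i ≫ h ∧ i y' = y₀ ∧ S₁.ι s₁ = s₀ ∧ h' y' = s₁ := by
  obtain ⟨U₁, hU₁, hyU₁, hU₁U⟩ := exists_isAffineOpen_mem_and_subset (X := Y)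
    (x := y₀) (U := U ⊓ h ⁻¹ᵁ W) ⟨hyU, show h y₀ ∈ W from hy₀ ▸ hsW⟩
  let f₁ : (U₁ : Scheme.{u}) ⟶ S := U₁.ι ≫ h
  haveI : IsAffine (U₁ : Scheme.{u}) := hU₁
  obtain ⟨S₁, hS₁, hsS₁, hS₁f⟩ := exists_isAffineOpen_mem_and_subset (X := S)
    (x := s₀) (U := ⟨Set.range f₁, f₁.isOpenMap.isOpen_range⟩) ⟨⟨y₀, hyU₁⟩, hy₀⟩
  haveI : Surjective (f₁ ∣_ S₁) := ⟨fun t => by
    obtain ⟨u, hu⟩ := hS₁f t.2
    refine ⟨⟨u, show f₁ u ∈ S₁ from hu ▸ t.2⟩, S₁.ι.isOpenEmbedding.injective ?_⟩
    rw [← Scheme.Hom.comp_apply, morphismRestrict_ι]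
    exact hu⟩
  let i : (f₁ ⁻¹ᵁ S₁ : Scheme.{u}) ⟶ Y := (f₁ ⁻¹ᵁ S₁).ι ≫ U₁.ι
  have hw : (f₁ ∣_ S₁) ≫ S₁.ι = i ≫ h := (morphismRestrict_ι f₁ S₁).trans (Category.assoc _ _ _).symm
  have hgi : GeometricallyIntegral (f₁ ∣_ S₁) := by
    refine geometricallyIntegral_of_connected h U i S₁.ι _ hw ?_ fun K _ k hk => hUW K k ?_
    · rintro _ ⟨v, rfl⟩; exact (hU₁U v.1.2).1
    · obtain ⟨t, ht⟩ := hk
      obtain ⟨v, hv⟩ := hS₁f (show k (closedPoint K) ∈ S₁ from ht ▸ t.2)
      rw [← hv]; exact (hU₁U v.2).2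
  refine ⟨S₁, _, i, f₁ ∣_ S₁, ⟨s₀, hsS₁⟩, ⟨⟨y₀, hyU₁⟩, show h y₀ ∈ S₁ from hy₀ ▸ hsS₁⟩, hS₁,
    hS₁.preimage f₁, inferInstance, inferInstance, hgi, hw, rfl, rfl, ?_⟩
  apply S₁.ι.isOpenEmbedding.injective
  rw [← Scheme.Hom.comp_apply, hw]
  exact hy₀

/-- The fibre of an affine morphism meets the closure of a point in a closed point with finite
residue field extension. -/
theorem exists_finite_specialisation {A B : Type u} [CommRing A] [CommRing B] [Algebra A B]
    [Algebra.FiniteType A B] (p : Ideal A) [p.IsPrime] (q : Ideal B) [q.IsPrime] [q.LiesOver p] :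
    ∃ (L : Type u) (_ : Field L) (_ : Algebra A L) (_ : Algebra p.ResidueField L)
      (_ : IsScalarTower A p.ResidueField L) (_ : FiniteDimensional p.ResidueField L) (θ : B →ₐ[A] L),
      q ≤ RingHom.ker θ.toRingHom := by
  let x := PrimeSpectrum.primesOverOrderIsoFiber A B p ⟨q, ‹_›, ‹_›⟩
  obtain ⟨M, hM, hxM⟩ := Ideal.exists_le_maximal x.asIdeal x.isPrime.ne_top
  letI : Field (p.Fiber B ⧸ M) := Ideal.Quotient.field M
  haveI : Algebra.FiniteType p.ResidueField (p.Fiber B) := inferInstance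
  haveI : Algebra.FiniteType p.ResidueField (p.Fiber B ⧸ M) :=
    Algebra.FiniteType.of_surjective (Ideal.Quotient.mkₐ p.ResidueField M) Ideal.Quotient.mk_surjective
  haveI : FiniteDimensional p.ResidueField (p.Fiber B ⧸ M) :=
    finite_of_finite_type_of_isJacobsonRing _ _
  let θ : B →ₐ[A] p.Fiber B ⧸ M :=
    (Ideal.Quotient.mkₐ A M).comp Algebra.TensorProduct.includeRight
  refine ⟨_, inferInstance, inferInstance, inferInstance, inferInstance, inferInstance, θ, ?_⟩
  intro b hb
  refine Ideal.Quotient.eq_zero_iff_mem.2 (hxM ?_)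
  have := (PrimeSpectrum.primesOverOrderIsoFiber A B p).symm_apply_apply ⟨q, ‹_›, ‹_›⟩
  exact (SetLike.ext_iff.1 (congrArg Subtype.val this) b).2 hb

/-- Smooth morphisms of affine schemes have, near a point with connected geometric preimages,
geometrically integral smooth neighbourhoods over an étale neighbourhood of the base. -/
theorem exists_geomIntegral_nhd {A B : Type u} [CommRing A] [CommRing B] [Algebra A B]
    [Algebra.Smooth A B] (y : Spec (CommRingCat.of B)) (s : Spec (CommRingCat.of A))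
    (hy : Spec.map (CommRingCat.ofHom (algebraMap A B)) y = s)
    (hgeo : ∀ (K : Type u) [Field K] (k : Spec (CommRingCat.of K) ⟶ Spec (CommRingCat.of A)),
      k (closedPoint K) = s → _root_.IsPreconnected
        (pullback.fst (Spec.map (CommRingCat.ofHom (algebraMap A B))) k ⁻¹' {y})) :
    ∃ (S' Y' : Scheme.{u}) (e : S' ⟶ Spec (CommRingCat.of A)) (b : Y' ⟶ Spec (CommRingCat.of B))
      (h' : Y' ⟶ S') (s' : S') (y' : Y'),
      IsAffine S' ∧ IsAffine Y' ∧ Hens2.IsEtaleNbhd e s' s ∧ Hens2.IsEtaleNbhd b y' y ∧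
      b ≫ Spec.map (CommRingCat.ofHom (algebraMap A B)) = h' ≫ e ∧ Smooth h' ∧
      GeometricallyIntegral h' ∧ h' y' = s' := by
  set h := Spec.map (CommRingCat.ofHom (algebraMap A B)) with hh
  haveI : Smooth h := (HasRingHomProperty.Spec_iff (P := @Smooth)).2 (RingHom.smooth_algebraMap.2 ‹_›)
  haveI : y.asIdeal.LiesOver s.asIdeal := ⟨by subst hy; rfl⟩
  obtain ⟨L, _, _, _, _, _, θ, hθ⟩ := exists_finite_specialisation s.asIdeal y.asIdeal
  obtain ⟨R', _, _, p', _, Z, _, _, _, _, ψ, P, _, _, hnhd, _, _, _, hψP, hPuniq⟩ :=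
    exists_multisection s.asIdeal L θ
  have he' := isEtaleNbhd_spec s.asIdeal p' hnhd
  set e₀ := Spec.map (CommRingCat.ofHom (algebraMap A R')) with he₀
  haveI : Etale e₀ := he'.etale
  set s₀ : Spec (CommRingCat.of R') := ⟨p', ‹_›⟩ with hs₀
  have hes : e₀ s₀ = s := he'.base_eq
  let h₁ := pullback.snd h e₀
  haveI : Smooth h₁ := MorphismProperty.pullback_snd _ _ inferInstance
  let z := Spec.map (CommRingCat.ofHom (algebraMap R' Z))
  haveI : IsFinite z := (IsFinite.SpecMap_iff _).2 (RingHom.finite_algebraMap.2 ‹_›)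
  haveI : Flat z := (HasRingHomProperty.Spec_iff (P := @Flat)).2 (RingHom.flat_algebraMap_iff.2 ‹_›)
  haveI : LocallyOfFinitePresentation z :=
    (HasRingHomProperty.Spec_iff (P := @LocallyOfFinitePresentation)).2 (RingHom.finitePresentation_algebraMap.2 ‹_›)
  let σ : Spec (CommRingCat.of Z) ⟶ pullback h e₀ := pullback.lift (Spec.map (CommRingCat.ofHom ψ.toRingHom)) z (by
    rw [← Spec.map_comp, ← Spec.map_comp]
    congr 1
    ext a
    show ψ (algebraMap A B a) = algebraMap R' Z (algebraMap A R' a)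
    rw [ψ.commutes, ← IsScalarTower.algebraMap_apply])
  have hσ : σ ≫ h₁ = z := pullback.lift_snd _ _ _
  let z₀ : Spec (CommRingCat.of Z) := ⟨P, ‹_›⟩
  have hz₀ : z z₀ = s₀ := PrimeSpectrum.ext (Ideal.LiesOver.over (P := P) (p := p')).symm
  have huniq : ∀ w, z w = s₀ → w = z₀ := fun w hw =>
    PrimeSpectrum.ext (hPuniq w.asIdeal w.isPrime ⟨(congrArg PrimeSpectrum.asIdeal hw).symm⟩)
  obtain ⟨y₀, hy₀y, hy₀s⟩ :=
    Scheme.Pullback.exists_preimage_pullback (f := h) (g := e₀) y s₀ (hy.trans hes.symm)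
  have hres : Function.Surjective (e₀.residueFieldMap (pullback.snd h e₀ y₀)) := by
    rw [hy₀s]; exact he'.residue_bijective.2
  obtain ⟨-, hres₀⟩ := Weight.pullback_residue_trivial h e₀ y₀ y₀ hres rfl rfl
  have huy : ∀ v, pullback.fst h e₀ v = y → pullback.snd h e₀ v = s₀ → v = y₀ := fun v h1 h2 =>
    (Weight.pullback_residue_trivial h e₀ y₀ v hres (h1.trans hy₀y.symm) (h2.trans hy₀s.symm)).1
  -- `y₀` specialises to the point of the multisection
  haveI : Etale (pullback.fst h e₀) := MorphismProperty.pullback_fst _ _ inferInstance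
  have hσs : h₁ (σ z₀) = s₀ := by rw [← Scheme.Hom.comp_apply, hσ, hz₀]
  have hspec : y₀ ⤳ σ z₀ := by
    have hc : y ⤳ pullback.fst h e₀ (σ z₀) := by
      rw [← Scheme.Hom.comp_apply, pullback.lift_fst]
      refine (PrimeSpectrum.le_iff_specializes y _).1 ?_
      show y.asIdeal ≤ P.comap ψ.toRingHom
      rw [hψP]; exact hθ
    obtain ⟨w, hw, hwy⟩ := Flat.generalizingMap (pullback.fst h e₀) hc
    have h1 : h₁ w ⤳ s₀ := hσs ▸ hw.map h₁.continuous
    have h2 : e₀ (h₁ w) = s := by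
      rw [← Scheme.Hom.comp_apply, ← pullback.condition, Scheme.Hom.comp_apply, hwy, hy]
    haveI : Algebra.Etale A R' := hnhd.1
    haveI : LocallyQuasiFinite e₀ :=
      (HasRingHomProperty.Spec_iff (P := @LocallyQuasiFinite)).2
        (show (algebraMap A R').QuasiFinite from RingHom.quasiFinite_algebraMap.2 inferInstance)
    have h3 : h₁ w = s₀ := (e₀.isDiscrete_preimage_singleton s).eq_of_specializes h1 h2 hes
    rwa [huy w hwy h3] at hw
  have hy₀ : h₁ y₀ = s₀ := hy₀s
  have hσy : σ z₀ ∈ connectedComponentIn (h₁ ⁻¹' {s₀}) y₀ := by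
    have hpc : _root_.IsPreconnected ({y₀, σ z₀} : Set _) :=
      isPreconnected_singleton.subset_closure (Set.singleton_subset_iff.2 (Or.inl rfl))
        (Set.insert_subset (subset_closure rfl) (Set.singleton_subset_iff.2 (specializes_iff_mem_closure.1 hspec)))
    refine hpc.subset_connectedComponentIn (Or.inl rfl) ?_ (Or.inr rfl)
    exact Set.insert_subset hy₀ (Set.singleton_subset_iff.2 hσs)
  obtain ⟨U, W, hsW, hyU, hUW⟩ := exists_connected_nhd h₁ z σ hσ z₀ hz₀ huniq hy₀ hσy (by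
    intro K _ k hk
    let ι := pullbackLeftPullbackSndIso h e₀ k
    have h1 := (hgeo K (k ≫ e₀) (by rw [Scheme.Hom.comp_apply, hk, hes])).image ι.inv
      ι.inv.continuous.continuousOn
    convert h1 using 1
    ext x
    refine ⟨fun hx => ⟨ι.hom x, ?_, ?_⟩, ?_⟩
    · show pullback.fst h (k ≫ e₀) (ι.hom x) = y
      rw [← Scheme.Hom.comp_apply, pullbackLeftPullbackSndIso_hom_fst, Scheme.Hom.comp_apply]
      rw [Set.mem_preimage, Set.mem_singleton_iff] at hx
      rw [hx, hy₀y]
    · rw [← Scheme.Hom.comp_apply, ι.hom_inv_id]; rfl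
    · rintro ⟨w, hw, rfl⟩
      refine huy _ ?_ ?_
      · rw [← Scheme.Hom.comp_apply, ← Scheme.Hom.comp_apply, pullbackLeftPullbackSndIso_inv_fst]
        exact hw
      · show h₁ (pullback.fst h₁ k (ι.inv w)) = s₀
        rw [← Scheme.Hom.comp_apply, pullback.condition, Scheme.Hom.comp_apply,
          Subsingleton.elim (pullback.snd h₁ k (ι.inv w)) (closedPoint K), hk])
  obtain ⟨S₁, Y', i, h', s₁, y', _, _, _, _, _, hw, hi, hs₁, hh'⟩ :=
    exists_shrink h₁ y₀ s₀ hy₀ U W hsW hyU hUW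
  refine ⟨S₁, Y', S₁.ι ≫ e₀, i ≫ pullback.fst h e₀, h', s₁, y', inferInstance, inferInstance,
    ⟨inferInstance, ?_, ?_⟩, ⟨inferInstance, ?_, ?_⟩, ?_, inferInstance, inferInstance, hh'⟩
  · rw [Scheme.Hom.comp_apply, hs₁, hes]
  · rw [Scheme.residueFieldMap_comp]
    refine (ConcreteCategory.bijective_of_isIso (S₁.ι.residueFieldMap _)).comp ?_
    exact bijective_residueFieldMap_congr e₀ hs₁.symm he'.residue_bijective
  · rw [Scheme.Hom.comp_apply, hi, hy₀y]
  · rw [Scheme.residueFieldMap_comp]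
    refine (ConcreteCategory.bijective_of_isIso (i.residueFieldMap _)).comp ?_
    exact bijective_residueFieldMap_congr _ hi.symm ⟨RingHom.injective _, hres₀⟩
  · rw [Category.assoc, pullback.condition, ← Category.assoc, ← hw, Category.assoc]

end Groth.Agent.GeomNbhd4
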